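import Cfsg.Agent.Lib.Helper1.Co1Mu.Tabs

set_option autoImplicit false
set_option maxRecDepth 100000

namespace Cfsg.Agent.Lib.Helper1.Co1Mu

open Cfsg Cfsg.Agent.Lib.Helper1.LeechEnum Cfsg.Agent.Lib.Helper1.Co1B

theorem actD_0 : allR (actChkN 3) 0 12285 = true := by decide +kernel

theorem actD_1 : allR (actChkN 3) 12285 12285 = true := by decide +kernel

theorem actD_2 : allR (actChkN 3) 24570 12285 = true := by decide +kernel

theorem actD_3 : allR (actChkN 3) 36855 12285 = true := by decide +kernel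

theorem actD_4 : allR (actChkN 3) 49140 12285 = true := by decide +kernel

theorem actD_5 : allR (actChkN 3) 61425 12285 = true := by decide +kernel

theorem actD_6 : allR (actChkN 3) 73710 12285 = true := by decide +kernel

theorem actD_7 : allR (actChkN 3) 85995 12285 = true := by decide +kernel

theorem actD_ok : ∀ i < 98280, actChkN 3 i = true := by
  intro i hi
  have h : (0 ≤ i ∧ i < 0 + 12285) ∨ (12285 ≤ i ∧ i < 12285 + 12285) ∨ (24570 ≤ i ∧ i < 24570 + 12285) ∨ (36855 ≤ i ∧ i < 36855 + 12285) ∨ (49140 ≤ i ∧ i < 49140 + 12285) ∨ (61425 ≤ i ∧ i < 61425 + 12285) ∨ (73710 ≤ i ∧ i < 73710 + 12285) ∨ (85995 ≤ i ∧ i < 85995 + 12285) := by omega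
  rcases h with ⟨h1, h2⟩ | ⟨h1, h2⟩ | ⟨h1, h2⟩ | ⟨h1, h2⟩ | ⟨h1, h2⟩ | ⟨h1, h2⟩ | ⟨h1, h2⟩ | ⟨h1, h2⟩
  · exact (allR_iff _ _ _).mp actD_0 i h1 h2
  · exact (allR_iff _ _ _).mp actD_1 i h1 h2
  · exact (allR_iff _ _ _).mp actD_2 i h1 h2
  · exact (allR_iff _ _ _).mp actD_3 i h1 h2
  · exact (allR_iff _ _ _).mp actD_4 i h1 h2
  · exact (allR_iff _ _ _).mp actD_5 i h1 h2
  · exact (allR_iff _ _ _).mp actD_6 i h1 h2
  · exact (allR_iff _ _ _).mp actD_7 i h1 h2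

end Cfsg.Agent.Lib.Helper1.Co1Mu
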