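import Mathlib.Data.Nat.Notation

set_option autoImplicit false

/-! Data for the group side: the relations between the five letters, the words of the old
letters, the numbers of the base points. -/

namespace Cfsg.Agent.Lib.Helper1.Co1Mu

/-- all the relations used by the certificates -/
def RA : List (List ℕ × List ℕ) :=
  [([3, 1, 3], [1, 3, 1]),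
   ([2, 0, 2, 1, 2, 0], [1, 2, 0, 2, 1, 2]),
   ([0, 1, 0, 3, 0, 1, 3, 1], [3, 0, 3, 1, 0, 3, 0]),
   ([0, 1, 2, 1, 0, 3, 0, 2], [3, 0, 3, 1, 2, 1, 3]),
   ([4, 0, 1, 2, 0, 1, 3, 4, 0, 1, 2, 0, 1, 3, 4, 0, 1, 2, 0, 1, 3, 4, 0, 1, 2, 0, 1, 3, 4, 0, 1, 2, 0, 1, 3, 4, 0, 1, 2, 0, 1, 3, 4, 0, 1, 2, 0, 1, 3, 4, 0, 1, 2, 0, 1, 3, 4, 0, 1, 2, 0, 1, 3], []),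
   ([0, 0], []),
   ([1, 1], []),
   ([2, 2], []),
   ([3, 3], []),
   ([4, 4], []),
   ([3, 2], [2, 3]),
   ([4, 0], [0, 4]),
   ([4, 1], [1, 4]),
   ([4, 2], [2, 4]),
   ([2, 0, 3, 0], [0, 3, 0, 2]),
   ([2, 1, 2, 1], [1, 2, 1, 2]),
   ([3, 0, 2, 0], [0, 2, 0, 3]),
   ([3, 0, 3, 0], [0, 3, 0, 3]),
   ([3, 1, 2, 3], [1, 3, 1, 2]),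
   ([3, 4, 3, 0], [0, 3, 4, 3]),
   ([4, 3, 0, 3], [3, 0, 3, 4]),
   ([2, 0, 4, 3, 0], [0, 4, 3, 0, 2]),
   ([3, 0, 2, 3, 0], [0, 2, 3, 0, 3]),
   ([3, 0, 3, 4, 3], [4, 3, 0]),
   ([3, 0, 4, 3, 0], [0, 3, 0, 4, 3]),
   ([3, 1, 2, 1, 2], [2, 3, 1, 2, 1]),
   ([4, 3, 0, 2, 3], [3, 0, 2, 3, 4]),
   ([1, 0, 1, 0, 1, 0], [0, 1, 0, 1, 0, 1]),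
   ([1, 3, 0, 3, 1, 0], [0, 1, 3, 0, 3, 1]),
   ([2, 0, 2, 0, 2, 0], [0, 2, 0, 2, 0, 2]),
   ([2, 1, 2, 0, 2, 1], [0, 2, 1, 2, 0, 2]),
   ([3, 0, 2, 3, 4, 3], [4, 3, 0, 2]),
   ([3, 0, 2, 4, 3, 0], [0, 2, 3, 0, 4, 3]),
   ([3, 0, 3, 1, 0, 1], [1, 0, 1, 3, 0, 3]),
   ([3, 1, 0, 1, 3, 0], [0, 3, 1, 0, 1, 3]),
   ([3, 1, 0, 2, 0, 3], [1, 3, 1, 0, 2, 0]),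
   ([3, 1, 0, 3, 0, 3], [1, 3, 1, 0, 3, 0]),
   ([3, 1, 0, 3, 4, 3], [1, 3, 1, 4, 3, 0]),
   ([3, 1, 2, 1, 3, 1], [1, 3, 1, 2, 1, 3]),
   ([4, 3, 0, 1, 3, 1], [3, 0, 3, 1, 4, 3]),
   ([4, 3, 4, 3, 4, 3], [3, 4, 3, 4, 3, 4]),
   ([1, 0, 1, 2, 0, 2, 0], [0, 2, 0, 2, 1, 0, 1]),
   ([1, 0, 1, 3, 0, 3, 1], [3, 0, 3, 1, 0]),
   ([1, 0, 2, 0, 2, 1, 0], [0, 1, 2, 0, 2, 0, 1]),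
   ([1, 2, 0, 2, 0, 1, 0], [0, 1, 0, 2, 0, 2, 1]),
   ([2, 0, 1, 0, 1, 2, 0], [0, 2, 1, 0, 1, 0, 2]),
   ([2, 0, 2, 0, 1, 0, 1], [1, 0, 1, 0, 2, 0, 2]),
   ([2, 0, 2, 0, 2, 3, 0], [0, 2, 0, 2, 3, 0, 2]),
   ([2, 0, 2, 1, 0, 1, 0], [0, 1, 0, 1, 2, 0, 2]),
   ([2, 1, 0, 1, 0, 2, 0], [0, 2, 0, 1, 0, 1, 2]),
   ([2, 1, 0, 2, 1, 2, 0], [1, 2, 1, 0, 2, 1, 2]),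
   ([2, 1, 2, 0, 1, 2, 1], [0, 2, 1, 2, 0, 1, 2]),
   ([3, 0, 1, 0, 1, 3, 0], [0, 3, 0, 1, 0, 1, 3]),
   ([3, 0, 1, 3, 0, 3, 1], [1, 3, 1, 0, 3, 1, 0]),
   ([3, 0, 2, 1, 2, 0, 2], [2, 3, 1, 2, 0, 2, 1]),
   ([3, 0, 3, 1, 0, 3, 1], [1, 0, 1, 3, 0, 1, 3]),
   ([3, 0, 3, 1, 4, 3, 1], [4, 3, 0, 1, 3]),
   ([3, 1, 0, 1, 0, 3, 0], [0, 3, 1, 0, 1, 0, 3]),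
   ([3, 1, 0, 1, 4, 3, 0], [0, 3, 1, 0, 1, 4, 3]),
   ([3, 1, 0, 2, 0, 2, 3], [1, 3, 1, 0, 2, 0, 2]),
   ([3, 1, 0, 2, 3, 0, 3], [1, 3, 1, 0, 2, 3, 0]),
   ([3, 1, 0, 2, 3, 4, 3], [1, 3, 1, 4, 3, 0, 2]),
   ([3, 1, 0, 3, 0, 2, 3], [1, 3, 1, 0, 3, 0, 2]),
   ([3, 1, 0, 3, 0, 4, 3], [1, 3, 1, 0, 4, 3, 0]),
   ([3, 1, 0, 3, 1, 0, 1], [1, 3, 0, 1, 3, 0, 3]),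
   ([3, 1, 2, 0, 2, 0, 3], [1, 3, 1, 2, 0, 2, 0]),
   ([3, 1, 2, 0, 2, 1, 2], [2, 3, 0, 2, 1, 2, 0]),
   ([3, 1, 2, 0, 3, 4, 3], [1, 3, 1, 2, 4, 3, 0]),
   ([4, 3, 0, 2, 1, 3, 1], [3, 0, 2, 3, 1, 4, 3]),
   ([4, 3, 0, 4, 3, 4, 3], [3, 0, 4, 3, 4, 3, 4]),
   ([0, 1, 0, 3, 0, 3, 1, 0], [3, 0, 1, 3, 1, 0, 3]),
   ([0, 1, 2, 1, 0, 3, 0, 3], [3, 0, 2, 3, 1, 2, 1]),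
   ([0, 1, 2, 1, 2, 3, 0, 3], [3, 0, 3, 1, 2, 1, 0]),
   ([0, 1, 3, 1, 0, 3, 0, 1], [3, 0, 1, 0, 3, 0, 3]),
   ([0, 2, 3, 1, 2, 1, 0, 3], [3, 0, 1, 2, 1, 3, 0]),
   ([0, 2, 3, 1, 2, 1, 3, 0], [3, 0, 1, 2, 1, 0, 3]),
   ([0, 3, 0, 1, 0, 3, 0, 1], [3, 1, 0, 3, 0, 1, 3]),
   ([0, 3, 0, 1, 0, 3, 0, 3], [1, 3, 1, 0, 3, 0, 1]),
   ([0, 3, 0, 1, 2, 1, 0, 3], [2, 3, 1, 2, 1, 3, 0]),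
   ([0, 3, 0, 1, 2, 1, 2, 0], [3, 1, 2, 1, 3, 0, 3]),
   ([0, 3, 0, 1, 2, 1, 2, 3], [3, 1, 2, 1, 0, 3, 0]),
   ([0, 3, 0, 1, 2, 1, 3, 0], [2, 3, 1, 2, 1, 0, 3]),
   ([0, 3, 0, 1, 3, 1, 0, 3], [1, 0, 3, 0, 3, 1, 0]),
   ([0, 3, 0, 2, 3, 1, 2, 1], [1, 2, 1, 0, 3, 0, 3]),
   ([0, 3, 0, 3, 1, 0, 3, 0], [1, 0, 3, 0, 1, 3, 1]),
   ([0, 3, 0, 3, 1, 2, 1, 0], [1, 2, 1, 2, 3, 0, 3]),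
   ([0, 3, 0, 3, 1, 2, 1, 3], [1, 2, 1, 0, 3, 0, 2]),
   ([0, 3, 1, 0, 3, 0, 1, 3], [3, 0, 1, 0, 3, 0, 1]),
   ([0, 3, 1, 2, 1, 0, 3, 0], [3, 0, 1, 2, 1, 2, 3]),
   ([0, 3, 1, 2, 1, 3, 0, 3], [3, 0, 1, 2, 1, 2, 0]),
   ([1, 0, 1, 0, 2, 0, 2, 1], [2, 0, 2, 0, 1, 0]),
   ([1, 0, 1, 3, 0, 1, 3, 1], [3, 0, 3, 1, 0, 3]),
   ([1, 0, 3, 0, 1, 0, 3, 0], [3, 1, 0, 3, 0, 1, 3]),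
   ([1, 0, 3, 0, 1, 3, 0, 3], [3, 1, 0, 3, 0, 1, 0]),
   ([1, 0, 3, 0, 1, 3, 1, 0], [0, 3, 0, 3, 1, 0, 3]),
   ([1, 0, 3, 0, 2, 3, 1, 2], [2, 1, 0, 3, 0, 3, 1]),
   ([1, 0, 3, 0, 3, 1, 0, 3], [0, 3, 0, 1, 3, 1, 0]),
   ([1, 0, 3, 0, 3, 1, 2, 1], [2, 1, 0, 3, 0, 2, 3]),
   ([1, 2, 1, 0, 3, 0, 2, 3], [0, 3, 0, 3, 1, 2, 1]),
   ([1, 2, 1, 0, 3, 0, 3, 1], [0, 3, 0, 2, 3, 1, 2]),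
   ([1, 3, 1, 0, 3, 0, 1, 0], [0, 3, 0, 1, 3, 0, 3]),
   ([1, 3, 1, 0, 3, 0, 1, 3], [0, 3, 0, 1, 0, 3, 0]),
   ([2, 0, 1, 0, 1, 2, 3, 0], [0, 2, 1, 0, 1, 3, 0, 2]),
   ([2, 0, 1, 0, 1, 3, 0, 3], [0, 3, 0, 2, 3, 1, 0, 1]),
   ([2, 0, 2, 0, 2, 4, 3, 0], [0, 2, 0, 2, 4, 3, 0, 2]),
   ([2, 0, 2, 1, 0, 1, 3, 0], [0, 1, 0, 1, 2, 3, 0, 2]),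
   ([2, 0, 2, 1, 0, 3, 0, 2], [1, 2, 0, 2, 1, 2, 3, 0]),
   ([2, 0, 2, 1, 2, 3, 0, 2], [1, 2, 0, 2, 1, 0, 3, 0]),
   ([2, 0, 2, 3, 1, 0, 1, 0], [0, 3, 1, 0, 1, 2, 0, 2]),
   ([2, 0, 2, 3, 1, 2, 0, 2], [0, 3, 0, 1, 2, 0, 2, 1]),
   ([2, 0, 3, 1, 0, 1, 2, 0], [0, 2, 3, 1, 0, 1, 0, 2]),
   ([2, 1, 0, 3, 0, 2, 3, 1], [1, 0, 3, 0, 3, 1, 2]),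
   ([2, 1, 0, 3, 0, 3, 1, 2], [1, 0, 3, 0, 2, 3, 1]),
   ([2, 3, 1, 0, 1, 0, 2, 0], [0, 2, 0, 3, 1, 0, 1, 2]),
   ([2, 3, 1, 2, 1, 0, 3, 0], [0, 3, 0, 1, 2, 1, 3]),
   ([2, 3, 1, 2, 1, 3, 0, 3], [0, 3, 0, 1, 2, 1, 0]),
   ([3, 0, 1, 0, 1, 0, 3, 0], [0, 3, 0, 1, 0, 1, 0, 3]),
   ([3, 0, 1, 0, 1, 2, 0, 2], [2, 3, 0, 2, 1, 0, 1, 0]),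
   ([3, 0, 1, 0, 1, 4, 3, 0], [0, 3, 0, 1, 0, 1, 4, 3]),
   ([3, 0, 1, 0, 3, 0, 1, 0], [0, 1, 0, 3, 0, 1, 0, 3]),
   ([3, 0, 1, 0, 3, 0, 1, 3], [0, 3, 1, 0, 3, 0, 1]),
   ([3, 0, 1, 0, 3, 0, 3, 1], [0, 1, 3, 1, 0, 3, 0]),
   ([3, 0, 1, 2, 0, 2, 1, 2], [0, 2, 0, 2, 3, 1, 2, 0]),
   ([3, 0, 1, 2, 1, 0, 3, 0], [0, 2, 3, 1, 2, 1, 3]),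
   ([3, 0, 1, 2, 1, 2, 0, 3], [0, 3, 1, 2, 1, 3, 0]),
   ([3, 0, 1, 2, 1, 2, 3, 0], [0, 3, 1, 2, 1, 0, 3]),
   ([3, 0, 1, 2, 1, 3, 0, 3], [0, 2, 3, 1, 2, 1, 0]),
   ([3, 0, 1, 3, 0, 1, 3, 1], [1, 3, 1, 0, 3, 1, 0, 3]),
   ([3, 0, 1, 3, 1, 0, 3, 0], [0, 1, 0, 3, 0, 3, 1]),
   ([3, 0, 2, 1, 0, 1, 0, 2], [2, 3, 0, 1, 0, 1, 2, 0]),
   ([3, 0, 2, 1, 0, 1, 3, 0], [0, 2, 3, 0, 1, 0, 1, 3]),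
   ([3, 0, 2, 1, 2, 0, 1, 2], [2, 3, 1, 2, 0, 1, 2, 1]),
   ([3, 0, 2, 3, 1, 0, 1, 3], [0, 2, 0, 1, 0, 1, 3, 0]),
   ([3, 0, 2, 3, 1, 2, 1, 0], [0, 1, 2, 1, 3, 0, 3]),
   ([3, 0, 2, 3, 1, 2, 1, 3], [0, 1, 2, 1, 0, 3, 0]),
   ([3, 0, 2, 3, 1, 4, 3, 1], [4, 3, 0, 2, 1, 3]),
   ([3, 0, 3, 1, 0, 3, 0, 1], [0, 1, 0, 3, 0, 1, 3]),
   ([3, 0, 3, 1, 0, 4, 3, 1], [1, 0, 1, 4, 3, 0, 1, 3]),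
   ([3, 0, 3, 1, 2, 1, 0, 3], [0, 1, 2, 1, 2, 3, 0]),
   ([3, 0, 3, 1, 2, 1, 3, 0], [0, 1, 2, 1, 2, 0, 3]),
   ([3, 1, 0, 1, 0, 2, 0, 2], [2, 0, 2, 0, 3, 1, 0, 1]),
   ([3, 1, 0, 1, 0, 2, 0, 3], [0, 3, 1, 0, 1, 2, 3, 0]),
   ([3, 1, 0, 1, 0, 2, 3, 0], [0, 3, 1, 0, 1, 2, 0, 3]),
   ([3, 1, 0, 1, 0, 4, 3, 0], [0, 3, 1, 0, 1, 0, 4, 3]),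
   ([3, 1, 0, 1, 2, 3, 0, 3], [0, 3, 1, 0, 1, 0, 2, 0]),
   ([3, 1, 0, 2, 0, 1, 3, 1], [1, 3, 1, 0, 2, 0, 1, 3]),
   ([3, 1, 0, 2, 1, 2, 0, 2], [2, 3, 1, 2, 1, 0, 2, 1]),
   ([3, 1, 0, 2, 3, 0, 2, 3], [1, 3, 1, 0, 2, 3, 0, 2]),
   ([3, 1, 0, 2, 3, 0, 4, 3], [1, 3, 1, 0, 2, 4, 3, 0]),
   ([3, 1, 0, 3, 0, 1, 0, 3], [1, 0, 3, 0, 1, 3, 0]),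
   ([3, 1, 0, 3, 0, 1, 3, 0], [1, 0, 3, 0, 1, 0, 3]),
   ([3, 1, 0, 3, 0, 1, 3, 1], [0, 3, 0, 1, 0, 3, 0]),
   ([3, 1, 0, 3, 0, 2, 4, 3], [1, 3, 1, 0, 4, 3, 0, 2]),
   ([3, 1, 0, 3, 1, 0, 3, 1], [1, 3, 0, 1, 3, 0, 1, 3]),
   ([3, 1, 0, 3, 1, 4, 3, 1], [1, 3, 1, 4, 3, 0, 1, 3]),
   ([3, 1, 2, 0, 1, 2, 1, 2], [2, 3, 0, 2, 1, 2, 0, 1]),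
   ([3, 1, 2, 0, 2, 0, 2, 3], [1, 3, 1, 2, 0, 2, 0, 2]),
   ([3, 1, 2, 0, 2, 3, 0, 3], [1, 3, 1, 2, 0, 2, 3, 0]),
   ([3, 1, 2, 0, 2, 3, 4, 3], [1, 3, 1, 2, 4, 3, 0, 2]),
   ([3, 1, 2, 1, 0, 2, 1, 2], [2, 3, 1, 0, 2, 1, 2, 0]),
   ([3, 1, 2, 1, 0, 3, 0, 2], [0, 3, 0, 1, 2, 1, 3]),
   ([3, 1, 2, 1, 0, 3, 0, 3], [0, 3, 0, 1, 2, 1, 2]),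
   ([4, 3, 0, 2, 4, 3, 4, 3], [3, 0, 2, 4, 3, 4, 3, 4]),
   ([4, 3, 4, 3, 1, 4, 3, 1], [3, 4, 3, 4, 3, 1, 4, 3]),
   ([0, 1, 0, 1, 0, 1, 3, 0, 1], [3, 0, 1, 3, 1, 0, 1, 3]),
   ([0, 1, 0, 1, 0, 1, 3, 0, 3], [3, 0, 1, 3, 1, 0, 3, 1]),
   ([0, 1, 0, 1, 0, 3, 0, 1, 3], [1, 3, 0, 1, 3, 1, 0, 1]),
   ([0, 1, 0, 1, 0, 3, 0, 3, 1], [1, 3, 0, 1, 3, 1, 0, 3]),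
   ([0, 1, 0, 3, 0, 3, 1, 2, 0], [3, 0, 1, 3, 1, 2, 0, 3]),
   ([0, 1, 0, 3, 0, 3, 1, 4, 3], [3, 0, 3, 1, 0, 4, 3, 0]),
   ([0, 1, 2, 1, 0, 3, 0, 1, 3], [3, 0, 2, 1, 3, 1, 2, 1]),
   ([0, 1, 2, 1, 0, 4, 3, 0, 2], [3, 0, 3, 1, 2, 1, 4, 3]),
   ([0, 1, 2, 1, 2, 3, 0, 2, 3], [3, 0, 3, 1, 2, 1, 0, 2]),
   ([0, 1, 3, 0, 1, 3, 1, 0, 1], [1, 0, 1, 0, 3, 0, 1, 3]),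
   ([0, 1, 3, 0, 1, 3, 1, 0, 3], [1, 0, 1, 0, 3, 0, 3, 1]),
   ([0, 1, 3, 1, 0, 1, 3, 1, 0], [3, 0, 1, 0, 1, 0, 1, 3]),
   ([0, 1, 3, 1, 0, 3, 1, 0, 3], [3, 1, 0, 1, 0, 1, 3, 0]),
   ([0, 1, 4, 3, 1, 0, 3, 0, 1], [4, 3, 0, 1, 0, 3, 0, 3]),
   ([0, 2, 1, 0, 3, 0, 1, 3, 1], [3, 0, 2, 3, 1, 0, 3, 0]),
   ([0, 2, 1, 0, 3, 0, 3, 1, 0], [3, 0, 2, 1, 3, 1, 0, 3]),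
   ([0, 2, 1, 3, 1, 0, 3, 0, 1], [3, 0, 2, 1, 0, 3, 0, 3]),
   ([0, 2, 3, 1, 0, 3, 0, 1, 3], [3, 0, 2, 1, 0, 3, 0, 1]),
   ([0, 2, 3, 1, 2, 1, 0, 2, 3], [3, 0, 1, 2, 1, 3, 0, 2]),
   ([0, 2, 3, 1, 2, 1, 0, 4, 3], [3, 0, 1, 2, 1, 4, 3, 0]),
   ([0, 2, 3, 1, 2, 1, 4, 3, 0], [3, 0, 1, 2, 1, 0, 4, 3]),
   ([0, 2, 4, 3, 1, 2, 1, 0, 3], [4, 3, 0, 1, 2, 1, 3, 0]),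
   ([0, 2, 4, 3, 1, 2, 1, 3, 0], [4, 3, 0, 1, 2, 1, 0, 3]),
   ([0, 3, 0, 1, 0, 1, 0, 1, 3], [1, 3, 1, 0, 1, 3, 1, 0]),
   ([0, 3, 0, 1, 0, 3, 0, 2, 3], [1, 3, 1, 0, 3, 0, 1, 2]),
   ([0, 3, 0, 1, 0, 4, 3, 0, 1], [3, 1, 0, 4, 3, 0, 1, 3]),
   ([0, 3, 0, 1, 2, 1, 0, 2, 3], [2, 3, 1, 2, 1, 3, 0, 2]),
   ([0, 3, 0, 1, 2, 1, 0, 4, 3], [2, 3, 1, 2, 1, 4, 3, 0]),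
   ([0, 3, 0, 1, 2, 1, 2, 4, 3], [3, 1, 2, 1, 0, 4, 3, 0]),
   ([0, 3, 0, 1, 2, 1, 4, 3, 0], [2, 3, 1, 2, 1, 0, 4, 3]),
   ([0, 3, 0, 1, 3, 1, 0, 1, 3], [1, 0, 1, 0, 1, 3, 0, 1]),
   ([0, 3, 0, 1, 3, 1, 0, 2, 3], [1, 0, 3, 0, 3, 1, 0, 2]),
   ([0, 3, 0, 1, 3, 1, 2, 0, 3], [1, 0, 3, 0, 3, 1, 2, 0]),
   ([0, 3, 0, 1, 3, 1, 2, 1, 3], [1, 2, 1, 0, 3, 0, 2, 1]),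
   ([0, 3, 0, 2, 1, 0, 3, 0, 1], [2, 3, 1, 0, 3, 0, 1, 3]),
   ([0, 3, 0, 2, 1, 0, 3, 0, 3], [2, 1, 3, 1, 0, 3, 0, 1]),
   ([0, 3, 0, 2, 1, 3, 1, 0, 3], [2, 1, 0, 3, 0, 3, 1, 0]),
   ([0, 3, 0, 2, 1, 3, 1, 2, 1], [1, 2, 1, 0, 3, 0, 1, 3]),
   ([0, 3, 0, 2, 3, 1, 0, 3, 0], [2, 1, 0, 3, 0, 1, 3, 1]),
   ([0, 3, 0, 3, 1, 0, 4, 3, 0], [1, 0, 3, 0, 3, 1, 4, 3]),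
   ([0, 3, 0, 3, 1, 2, 1, 4, 3], [1, 2, 1, 0, 4, 3, 0, 2]),
   ([0, 3, 1, 0, 1, 0, 1, 3, 0], [1, 3, 1, 0, 3, 1, 0, 3]),
   ([0, 3, 1, 0, 3, 0, 1, 2, 3], [3, 0, 1, 0, 3, 0, 1, 2]),
   ([0, 3, 1, 0, 4, 3, 0, 1, 3], [3, 0, 1, 0, 4, 3, 0, 1]),
   ([0, 3, 1, 2, 1, 0, 4, 3, 0], [3, 0, 1, 2, 1, 2, 4, 3]),
   ([0, 3, 1, 2, 1, 3, 0, 2, 3], [3, 0, 1, 2, 1, 2, 0, 2]),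
   ([0, 4, 3, 0, 1, 0, 3, 0, 1], [4, 3, 1, 0, 3, 0, 1, 3]),
   ([0, 4, 3, 0, 1, 0, 3, 0, 3], [1, 4, 3, 1, 0, 3, 0, 1]),
   ([0, 4, 3, 0, 1, 2, 1, 0, 3], [2, 4, 3, 1, 2, 1, 3, 0]),
   ([0, 4, 3, 0, 1, 2, 1, 2, 0], [4, 3, 1, 2, 1, 3, 0, 3]),
   ([0, 4, 3, 0, 1, 2, 1, 2, 3], [4, 3, 1, 2, 1, 0, 3, 0]),
   ([0, 4, 3, 0, 1, 2, 1, 3, 0], [2, 4, 3, 1, 2, 1, 0, 3]),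
   ([0, 4, 3, 1, 0, 3, 0, 1, 3], [4, 3, 0, 1, 0, 3, 0, 1]),
   ([0, 4, 3, 1, 2, 1, 0, 3, 0], [4, 3, 0, 1, 2, 1, 2, 3]),
   ([0, 4, 3, 1, 2, 1, 3, 0, 3], [4, 3, 0, 1, 2, 1, 2, 0]),
   ([1, 0, 1, 0, 1, 2, 0, 2, 1], [0, 1, 0, 2, 0, 2, 0, 1, 0]),
   ([1, 0, 1, 0, 1, 3, 0, 1, 3], [0, 3, 0, 1, 3, 1, 0, 1]),
   ([1, 0, 1, 0, 2, 0, 2, 0, 1], [0, 1, 0, 1, 2, 0, 2, 1, 0]),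
   ([1, 0, 1, 0, 2, 0, 2, 0, 2], [0, 2, 0, 2, 1, 0, 1, 2, 0]),
   ([1, 0, 1, 0, 2, 1, 0, 1, 0], [0, 2, 1, 0, 1, 2, 3, 0, 3]),
   ([1, 0, 1, 0, 2, 1, 0, 1, 2], [0, 2, 1, 0, 1, 0, 3, 0, 3]),
   ([1, 0, 1, 0, 2, 1, 0, 1, 3], [0, 2, 1, 0, 1, 0, 3, 0, 2]),
   ([1, 0, 1, 0, 2, 1, 3, 0, 2], [0, 2, 1, 3, 0, 2, 1, 3, 1]),
   ([1, 0, 1, 0, 2, 1, 3, 0, 3], [0, 2, 1, 3, 0, 2, 3, 1, 2]),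
   ([1, 0, 1, 0, 2, 3, 0, 3, 1], [0, 2, 1, 0, 1, 2, 0, 1, 0]),
   ([1, 0, 1, 2, 0, 1, 0, 1, 0], [0, 3, 0, 2, 3, 1, 0, 1, 2]),
   ([1, 0, 1, 2, 0, 2, 1, 0, 1], [0, 1, 0, 1, 0, 2, 0, 2, 0]),
   ([1, 0, 1, 2, 3, 0, 2, 3, 1], [0, 2, 0, 2, 3, 0, 3, 1, 0]),
   ([1, 0, 1, 3, 1, 0, 3, 1, 0], [3, 1, 0, 3, 0, 1, 0, 1]),
   ([1, 0, 2, 0, 2, 0, 1, 0, 2], [0, 2, 0, 2, 0, 1, 0, 2, 0]),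
   ([1, 0, 2, 0, 2, 3, 0, 3, 1], [0, 1, 2, 3, 0, 2, 3, 1, 0]),
   ([1, 0, 2, 1, 0, 1, 0, 3, 0], [0, 1, 0, 2, 1, 0, 1, 2, 3]),
   ([1, 0, 2, 1, 0, 1, 2, 0, 1], [0, 1, 0, 2, 3, 0, 3, 1, 0]),
   ([1, 0, 2, 1, 0, 1, 2, 0, 3], [0, 1, 0, 2, 1, 0, 1, 3, 0]),
   ([1, 0, 2, 1, 0, 1, 2, 3, 0], [0, 1, 0, 2, 1, 0, 1, 0, 3]),
   ([1, 0, 2, 1, 0, 1, 3, 0, 3], [0, 1, 0, 2, 1, 0, 1, 2, 0]),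
   ([1, 0, 2, 1, 3, 0, 2, 1, 3], [0, 1, 0, 2, 1, 3, 0, 2, 1]),
   ([1, 0, 2, 1, 3, 0, 2, 3, 1], [0, 1, 0, 2, 1, 3, 0, 2, 3]),
   ([1, 0, 3, 0, 1, 0, 1, 0, 1], [3, 1, 0, 1, 3, 1, 0, 3]),
   ([1, 0, 3, 0, 1, 0, 4, 3, 0], [3, 1, 0, 3, 0, 1, 4, 3]),
   ([1, 0, 3, 0, 1, 2, 3, 0, 3], [3, 1, 0, 3, 0, 1, 2, 0]),
   ([1, 0, 3, 0, 1, 3, 0, 2, 3], [3, 1, 0, 3, 0, 1, 0, 2]),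
   ([1, 0, 3, 0, 1, 3, 1, 2, 0], [0, 3, 0, 3, 1, 2, 0, 3]),
   ([1, 0, 3, 0, 1, 3, 1, 2, 1], [2, 1, 0, 3, 0, 2, 1, 3]),
   ([1, 0, 3, 0, 2, 1, 3, 1, 0], [0, 3, 0, 2, 3, 1, 2, 0, 3]),
   ([1, 0, 3, 0, 2, 1, 3, 1, 2], [2, 1, 0, 3, 0, 1, 3, 1]),
   ([1, 0, 3, 0, 2, 3, 1, 0, 1], [0, 1, 2, 0, 1, 0, 1, 0, 2]),
   ([1, 0, 3, 0, 2, 3, 1, 0, 3], [0, 3, 0, 2, 1, 3, 1, 2, 0]),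
   ([1, 0, 3, 0, 3, 1, 0, 2, 3], [0, 3, 0, 1, 3, 1, 0, 2]),
   ([1, 0, 3, 0, 3, 1, 0, 4, 3], [0, 3, 0, 3, 1, 4, 3, 0]),
   ([1, 0, 3, 0, 3, 1, 2, 0, 3], [0, 3, 0, 1, 3, 1, 2, 0]),
   ([1, 0, 3, 0, 3, 1, 4, 3, 0], [0, 3, 0, 3, 1, 0, 4, 3]),
   ([1, 0, 3, 1, 0, 1, 0, 1, 3], [3, 1, 0, 3, 1, 0, 3, 0]),
   ([1, 0, 4, 3, 0, 1, 0, 3, 0], [4, 3, 1, 0, 3, 0, 1, 3]),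
   ([1, 0, 4, 3, 0, 1, 3, 0, 3], [4, 3, 1, 0, 3, 0, 1, 0]),
   ([1, 2, 0, 1, 0, 1, 0, 2, 1], [0, 1, 0, 3, 0, 2, 3, 1, 0]),
   ([1, 2, 0, 1, 0, 1, 0, 2, 3], [0, 1, 2, 0, 1, 0, 1, 3, 0]),
   ([1, 2, 0, 1, 0, 1, 3, 0, 2], [0, 1, 2, 0, 1, 0, 1, 0, 3]),
   ([1, 2, 0, 2, 1, 0, 1, 2, 0], [0, 1, 2, 0, 2, 1, 0, 1, 2]),
   ([1, 2, 1, 0, 3, 0, 1, 3, 1], [0, 3, 0, 2, 1, 3, 1, 2]),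
   ([1, 2, 1, 0, 3, 0, 2, 1, 3], [0, 3, 0, 1, 3, 1, 2, 1]),
   ([1, 2, 1, 3, 1, 0, 3, 0, 1], [3, 1, 0, 3, 0, 2, 1, 2]),
   ([1, 2, 1, 3, 1, 0, 3, 0, 2], [3, 1, 0, 3, 0, 1, 2, 1]),
   ([1, 2, 3, 0, 2, 3, 1, 0, 1], [0, 1, 0, 2, 0, 2, 3, 0, 3]),
   ([1, 3, 0, 1, 3, 0, 1, 3, 0], [0, 1, 3, 0, 1, 3, 0, 1, 3]),
   ([1, 3, 0, 1, 3, 1, 0, 1, 3], [0, 1, 0, 1, 0, 3, 0, 1]),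
   ([1, 3, 0, 1, 3, 1, 0, 2, 0], [0, 1, 3, 0, 3, 1, 2, 0, 3]),
   ([1, 3, 0, 1, 3, 1, 0, 3, 1], [0, 1, 0, 1, 0, 3, 0, 3]),
   ([1, 3, 0, 1, 3, 1, 4, 3, 0], [0, 1, 3, 0, 1, 3, 1, 4, 3]),
   ([1, 3, 1, 0, 1, 3, 1, 0, 3], [0, 3, 0, 1, 0, 1, 0, 1]),
   ([1, 3, 1, 0, 3, 0, 1, 2, 0], [0, 3, 0, 1, 2, 3, 0, 3]),
   ([1, 3, 1, 0, 3, 0, 1, 2, 1], [2, 1, 3, 1, 0, 3, 0, 2]),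
   ([1, 3, 1, 0, 3, 0, 1, 2, 3], [0, 3, 0, 1, 0, 3, 0, 2]),
   ([1, 3, 1, 0, 3, 0, 1, 4, 3], [0, 3, 0, 1, 0, 4, 3, 0]),
   ([1, 3, 1, 0, 3, 0, 2, 1, 0], [0, 3, 0, 2, 1, 2, 3, 0, 3]),
   ([1, 3, 1, 0, 3, 0, 2, 1, 2], [2, 1, 3, 1, 0, 3, 0, 1]),
   ([1, 3, 1, 0, 3, 0, 2, 1, 3], [0, 3, 0, 2, 1, 0, 3, 0, 2]),
   ([1, 3, 1, 0, 3, 1, 0, 3, 0], [0, 3, 1, 0, 1, 0, 1, 3]),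
   ([1, 4, 3, 1, 0, 3, 0, 1, 0], [0, 4, 3, 0, 1, 3, 0, 3]),
   ([1, 4, 3, 1, 0, 3, 0, 1, 3], [0, 4, 3, 0, 1, 0, 3, 0]),
   ([2, 0, 1, 0, 1, 0, 2, 0, 2], [0, 2, 0, 2, 0, 2, 1, 0, 1]),
   ([2, 0, 1, 0, 1, 0, 2, 1, 0], [1, 0, 1, 0, 3, 0, 2, 3, 1]),
   ([2, 0, 1, 0, 1, 0, 2, 1, 3], [1, 3, 0, 2, 1, 3, 1, 2, 0]),
   ([2, 0, 1, 0, 1, 0, 2, 3, 0], [1, 0, 1, 2, 0, 1, 0, 1, 3]),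
   ([2, 0, 1, 0, 1, 0, 3, 0, 2], [0, 2, 1, 0, 1, 0, 2, 3, 0]),
   ([2, 0, 1, 0, 1, 0, 3, 0, 3], [0, 3, 0, 2, 3, 1, 0, 1, 0]),
   ([2, 0, 1, 0, 1, 2, 4, 3, 0], [0, 2, 1, 0, 1, 4, 3, 0, 2]),
   ([2, 0, 1, 0, 1, 3, 0, 1, 3], [0, 3, 0, 2, 3, 1, 0, 3, 1]),
   ([2, 0, 1, 0, 1, 3, 0, 2, 3], [0, 3, 0, 2, 3, 1, 0, 1, 2]),
   ([2, 0, 1, 0, 2, 0, 2, 0, 1], [0, 2, 0, 1, 0, 2, 0, 2, 0]),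
   ([2, 0, 1, 0, 2, 0, 2, 1, 2], [0, 2, 1, 0, 1, 0, 1, 2, 0]),
   ([2, 0, 1, 3, 1, 0, 3, 1, 0], [0, 3, 0, 2, 1, 3, 0, 3, 1]),
   ([2, 0, 2, 0, 1, 0, 2, 0, 2], [0, 1, 0, 2, 0, 2, 0, 1, 0]),
   ([2, 0, 2, 0, 1, 0, 2, 1, 2], [1, 0, 1, 0, 2, 0, 1, 2, 1]),
   ([2, 0, 2, 0, 1, 2, 0, 2, 1], [0, 2, 0, 2, 0, 1, 2, 0, 2]),
   ([2, 0, 2, 0, 2, 1, 0, 1, 2], [0, 2, 0, 1, 0, 1, 0, 2, 0]),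
   ([2, 0, 2, 0, 3, 1, 0, 1, 2], [3, 1, 0, 1, 0, 2, 0]),
   ([2, 0, 2, 0, 3, 1, 0, 1, 3], [0, 3, 1, 0, 1, 2, 3, 0, 2]),
   ([2, 0, 2, 1, 0, 1, 2, 0, 2], [0, 1, 0, 1, 0, 2, 0, 2, 0]),
   ([2, 0, 2, 1, 0, 1, 4, 3, 0], [0, 1, 0, 1, 2, 4, 3, 0, 2]),
   ([2, 0, 2, 1, 0, 2, 0, 2, 0], [1, 2, 0, 2, 1, 0, 2, 0, 2]),
   ([2, 0, 2, 1, 0, 4, 3, 0, 2], [1, 2, 0, 2, 1, 2, 4, 3, 0]),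
   ([2, 0, 2, 1, 2, 4, 3, 0, 2], [1, 2, 0, 2, 1, 0, 4, 3, 0]),
   ([2, 0, 2, 3, 0, 1, 0, 1, 2], [0, 3, 0, 1, 0, 1, 0, 2, 0]),
   ([2, 0, 2, 3, 1, 2, 0, 1, 2], [0, 3, 0, 1, 2, 0, 1, 2, 1]),
   ([2, 0, 2, 4, 3, 1, 0, 1, 0], [0, 4, 3, 1, 0, 1, 2, 0, 2]),
   ([2, 0, 2, 4, 3, 1, 2, 0, 2], [0, 4, 3, 0, 1, 2, 0, 2, 1]),
   ([2, 0, 3, 1, 0, 1, 2, 3, 0], [0, 2, 0, 3, 1, 0, 1, 2, 3]),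
   ([2, 0, 3, 1, 2, 0, 1, 0, 1], [1, 3, 1, 2, 0, 3, 1, 2, 0]),
   ([2, 0, 4, 3, 1, 0, 1, 2, 0], [0, 2, 4, 3, 1, 0, 1, 0, 2]),
   ([2, 1, 0, 1, 0, 1, 2, 0, 2], [0, 2, 0, 1, 0, 2, 0, 2, 1]),
   ([2, 1, 0, 1, 0, 2, 3, 0, 2], [0, 2, 0, 1, 0, 1, 0, 3, 0]),
   ([2, 1, 0, 1, 0, 3, 0, 2, 3], [0, 1, 0, 1, 0, 2, 1, 0, 1]),
   ([2, 1, 0, 1, 2, 0, 1, 0, 1], [0, 1, 0, 1, 0, 2, 3, 0, 3]),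
   ([2, 1, 0, 1, 2, 0, 2, 1, 0], [0, 2, 1, 0, 1, 2, 0, 2, 1]),
   ([2, 1, 0, 2, 0, 1, 0, 1, 2], [1, 2, 1, 2, 0, 1, 0, 2, 0]),
   ([2, 1, 0, 2, 1, 0, 3, 0, 2], [1, 2, 1, 0, 2, 1, 2, 3, 0]),
   ([2, 1, 0, 2, 1, 2, 3, 0, 2], [1, 2, 1, 0, 2, 1, 0, 3, 0]),
   ([2, 1, 0, 3, 0, 1, 3, 1, 2], [1, 0, 3, 0, 2, 1, 3, 1]),
   ([2, 1, 0, 3, 0, 2, 1, 3, 1], [1, 0, 3, 0, 1, 3, 1, 2]),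
   ([2, 1, 2, 0, 1, 0, 1, 0, 1], [1, 2, 1, 2, 0, 1, 0, 1, 0]),
   ([2, 1, 2, 0, 1, 0, 2, 0, 2], [1, 2, 1, 0, 2, 0, 1, 0, 1]),
   ([2, 1, 2, 0, 1, 3, 0, 3, 1], [1, 2, 1, 2, 3, 0, 3, 1, 0]),
   ([2, 1, 3, 0, 2, 1, 3, 1, 2], [0, 1, 0, 1, 0, 2, 1, 3, 0]),
   ([2, 1, 3, 1, 0, 3, 0, 1, 2], [1, 3, 1, 0, 3, 0, 2, 1]),
   ([2, 1, 3, 1, 0, 3, 0, 2, 1], [1, 3, 1, 0, 3, 0, 1, 2]),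
   ([2, 1, 3, 1, 2, 0, 3, 1, 2], [0, 3, 1, 2, 0, 1, 0, 1, 0]),
   ([2, 3, 0, 1, 0, 1, 0, 2, 1], [0, 3, 1, 0, 1, 0, 2, 1, 0]),
   ([2, 3, 0, 1, 0, 1, 2, 3, 0], [0, 2, 3, 0, 1, 0, 1, 2, 3]),
   ([2, 3, 0, 2, 3, 1, 0, 1, 0], [1, 0, 1, 0, 2, 3, 0, 2, 3]),
   ([2, 3, 0, 2, 3, 1, 2, 0, 2], [0, 3, 0, 3, 1, 2, 0, 2, 1]),
   ([2, 3, 0, 3, 1, 2, 0, 1, 0], [1, 2, 3, 0, 3, 1, 2, 0, 1]),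
   ([2, 3, 1, 0, 1, 2, 0, 1, 0], [0, 3, 0, 1, 0, 1, 2, 0, 1]),
   ([2, 3, 1, 0, 3, 0, 2, 1, 3], [0, 3, 0, 1, 0, 3, 0, 2, 1]),
   ([2, 3, 1, 2, 1, 0, 4, 3, 0], [0, 3, 0, 1, 2, 1, 4, 3]),
   ([2, 3, 1, 2, 1, 3, 0, 2, 3], [0, 3, 0, 1, 2, 1, 0, 2]),
   ([2, 3, 4, 3, 1, 2, 0, 2, 1], [0, 2, 3, 4, 3, 1, 2, 0, 2]),
   ([2, 4, 3, 1, 0, 1, 0, 2, 0], [0, 2, 0, 4, 3, 1, 0, 1, 2]),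
   ([2, 4, 3, 1, 2, 1, 0, 3, 0], [0, 4, 3, 0, 1, 2, 1, 3]),
   ([2, 4, 3, 1, 2, 1, 3, 0, 3], [0, 4, 3, 0, 1, 2, 1, 0]),
   ([3, 0, 1, 0, 1, 0, 1, 3, 0], [0, 1, 3, 1, 0, 1, 3, 1]),
   ([3, 0, 1, 0, 1, 0, 2, 0, 2], [0, 2, 0, 2, 3, 0, 1, 0, 1]),
   ([3, 0, 1, 0, 1, 0, 2, 0, 3], [0, 3, 0, 1, 0, 1, 2, 3, 0]),
   ([3, 0, 1, 0, 1, 0, 2, 1, 0], [2, 0, 3, 1, 0, 1, 0, 2, 1]),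
   ([3, 0, 1, 0, 1, 0, 2, 3, 0], [0, 3, 0, 1, 0, 1, 2, 0, 3]),
   ([3, 0, 1, 0, 1, 0, 4, 3, 0], [0, 3, 0, 1, 0, 1, 0, 4, 3]),
   ([3, 0, 1, 0, 1, 2, 0, 1, 0], [0, 2, 3, 1, 0, 1, 2, 0, 1]),
   ([3, 0, 1, 0, 1, 2, 3, 0, 2], [2, 0, 2, 3, 0, 1, 0, 1, 3]),
   ([3, 0, 1, 0, 1, 2, 3, 0, 3], [0, 3, 0, 1, 0, 1, 0, 2, 0]),
   ([3, 0, 1, 0, 3, 0, 1, 2, 0], [0, 1, 0, 3, 0, 1, 2, 0, 3]),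
   ([3, 0, 1, 0, 3, 0, 1, 2, 3], [0, 3, 1, 0, 3, 0, 1, 2]),
   ([3, 0, 1, 0, 3, 0, 2, 1, 3], [0, 2, 3, 1, 0, 3, 0, 2, 1]),
   ([3, 0, 1, 0, 3, 0, 2, 3, 1], [0, 2, 1, 3, 1, 0, 3, 0, 2]),
   ([3, 0, 1, 0, 4, 3, 0, 1, 3], [0, 3, 1, 0, 4, 3, 0, 1]),
   ([3, 0, 1, 2, 0, 1, 2, 1, 2], [0, 2, 0, 2, 3, 1, 2, 0, 1]),
   ([3, 0, 1, 2, 1, 0, 4, 3, 0], [0, 2, 3, 1, 2, 1, 4, 3]),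
   ([3, 0, 1, 2, 1, 2, 0, 2, 3], [0, 3, 1, 2, 1, 3, 0, 2]),
   ([3, 0, 1, 2, 1, 2, 0, 4, 3], [0, 3, 1, 2, 1, 4, 3, 0]),
   ([3, 0, 1, 2, 1, 2, 4, 3, 0], [0, 3, 1, 2, 1, 0, 4, 3]),
   ([3, 0, 1, 2, 1, 3, 0, 2, 3], [0, 2, 3, 1, 2, 1, 0, 2]),
   ([3, 0, 1, 3, 0, 1, 3, 0, 1], [1, 0, 3, 1, 0, 3, 1, 0, 3]),
   ([3, 0, 1, 3, 0, 1, 3, 0, 3], [1, 0, 1, 3, 0, 1, 3, 0, 1]),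
   ([3, 0, 1, 3, 1, 0, 1, 3, 1], [0, 1, 0, 1, 0, 1, 3, 0]),
   ([3, 0, 1, 3, 1, 0, 3, 1, 0], [1, 0, 1, 0, 1, 3, 0, 3]),
   ([3, 0, 2, 1, 0, 1, 0, 3, 0], [0, 2, 3, 0, 1, 0, 1, 0, 3]),
   ([3, 0, 2, 1, 0, 1, 2, 0, 1], [0, 3, 1, 0, 1, 2, 0, 1, 0]),
   ([3, 0, 2, 1, 0, 1, 4, 3, 0], [0, 2, 3, 0, 1, 0, 1, 4, 3]),
   ([3, 0, 2, 1, 0, 3, 0, 1, 0], [0, 2, 1, 0, 3, 0, 1, 0, 3]),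
   ([3, 0, 2, 1, 0, 3, 0, 1, 3], [0, 2, 3, 1, 0, 3, 0, 1]),
   ([3, 0, 2, 1, 0, 3, 0, 2, 1], [0, 3, 1, 0, 3, 0, 2, 1, 3]),
   ([3, 0, 2, 1, 0, 3, 0, 2, 3], [0, 1, 3, 1, 0, 3, 0, 2, 1]),
   ([3, 0, 2, 1, 0, 3, 0, 3, 1], [0, 2, 1, 3, 1, 0, 3, 0]),
   ([3, 0, 2, 1, 3, 1, 0, 3, 0], [0, 2, 1, 0, 3, 0, 3, 1]),
   ([3, 0, 2, 1, 3, 1, 2, 0, 3], [0, 1, 0, 3, 0, 2, 3, 1, 0]),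
   ([3, 0, 2, 1, 3, 1, 2, 1, 3], [0, 1, 2, 1, 0, 3, 0, 1]),
   ([3, 0, 2, 3, 1, 0, 1, 0, 2], [2, 1, 0, 1, 0, 2, 3, 0, 3]),
   ([3, 0, 2, 3, 1, 0, 1, 0, 3], [0, 2, 0, 1, 0, 1, 0, 3, 0]),
   ([3, 0, 2, 3, 1, 0, 1, 2, 0], [0, 1, 0, 1, 2, 0, 1, 0, 1]),
   ([3, 0, 2, 3, 1, 0, 1, 2, 3], [0, 2, 0, 1, 0, 1, 3, 0, 2]),
   ([3, 0, 2, 3, 1, 0, 1, 4, 3], [0, 2, 0, 1, 0, 1, 4, 3, 0]),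
   ([3, 0, 2, 3, 1, 0, 3, 0, 1], [0, 2, 1, 0, 3, 0, 1, 3]),
   ([3, 0, 2, 3, 1, 0, 3, 0, 2], [0, 1, 0, 3, 0, 2, 1, 3, 1]),
   ([3, 0, 2, 3, 1, 2, 0, 2, 1], [0, 3, 0, 2, 3, 1, 2, 0, 2]),
   ([3, 0, 2, 3, 1, 2, 1, 4, 3], [0, 1, 2, 1, 0, 4, 3, 0]),
   ([3, 0, 3, 1, 0, 3, 0, 2, 1], [0, 2, 1, 0, 3, 0, 2, 1, 3]),
   ([3, 0, 3, 1, 0, 4, 3, 0, 1], [0, 1, 0, 4, 3, 0, 1, 3]),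
   ([3, 0, 3, 1, 2, 0, 1, 0, 1], [2, 1, 2, 3, 0, 3, 1, 2, 0]),
   ([3, 0, 3, 1, 2, 1, 0, 2, 3], [0, 1, 2, 1, 2, 3, 0, 2]),
   ([3, 0, 3, 1, 2, 1, 0, 4, 3], [0, 1, 2, 1, 2, 4, 3, 0]),
   ([3, 0, 3, 1, 2, 1, 4, 3, 0], [0, 1, 2, 1, 2, 0, 4, 3]),
   ([3, 1, 0, 1, 0, 1, 3, 0, 1], [0, 3, 0, 1, 3, 0, 1, 3]),
   ([3, 1, 0, 1, 0, 1, 3, 0, 3], [0, 1, 3, 1, 0, 3, 1, 0]),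
   ([3, 1, 0, 1, 0, 2, 0, 4, 3], [0, 3, 1, 0, 1, 2, 4, 3, 0]),
   ([3, 1, 0, 1, 0, 2, 1, 0, 1], [0, 2, 3, 0, 1, 0, 1, 0, 2]),
   ([3, 1, 0, 1, 0, 2, 4, 3, 0], [0, 3, 1, 0, 1, 2, 0, 4, 3]),
   ([3, 1, 0, 1, 2, 0, 1, 0, 1], [0, 3, 0, 2, 1, 0, 1, 2, 0]),
   ([3, 1, 0, 1, 2, 3, 0, 2, 3], [0, 2, 0, 2, 0, 3, 1, 0, 1]),
   ([3, 1, 0, 1, 3, 1, 0, 3, 0], [1, 0, 3, 1, 0, 1, 0, 1]),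
   ([3, 1, 0, 1, 3, 1, 0, 3, 1], [1, 0, 3, 0, 1, 0, 1, 0]),
   ([3, 1, 0, 2, 0, 2, 1, 3, 1], [1, 3, 1, 0, 2, 0, 2, 1, 3]),
   ([3, 1, 0, 2, 1, 2, 0, 1, 2], [2, 3, 1, 2, 1, 0, 1, 2, 1]),
   ([3, 1, 0, 2, 3, 0, 1, 3, 1], [1, 3, 1, 0, 2, 3, 0, 1, 3]),
   ([3, 1, 0, 2, 3, 0, 2, 4, 3], [1, 3, 1, 0, 2, 4, 3, 0, 2]),
   ([3, 1, 0, 2, 3, 1, 4, 3, 1], [1, 3, 1, 4, 3, 0, 2, 1, 3]),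
   ([3, 1, 0, 3, 0, 1, 0, 1, 0], [1, 0, 1, 3, 1, 0, 3, 1]),
   ([3, 1, 0, 3, 0, 1, 0, 1, 3], [1, 3, 1, 0, 1, 0, 1, 3, 0]),
   ([3, 1, 0, 3, 0, 1, 0, 2, 3], [1, 0, 3, 0, 1, 3, 0, 2]),
   ([3, 1, 0, 3, 0, 1, 0, 4, 3], [1, 0, 3, 0, 1, 4, 3, 0]),
   ([3, 1, 0, 3, 0, 1, 2, 0, 3], [1, 0, 3, 0, 1, 2, 3, 0]),
   ([3, 1, 0, 3, 0, 1, 2, 1, 0], [1, 2, 1, 3, 1, 2, 0, 3]),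
   ([3, 1, 0, 3, 0, 1, 2, 1, 2], [1, 2, 1, 3, 1, 0, 3, 0]),
   ([3, 1, 0, 3, 0, 1, 2, 1, 3], [1, 2, 3, 1, 0, 3, 0, 2]),
   ([3, 1, 0, 3, 0, 1, 2, 3, 0], [1, 0, 3, 0, 1, 2, 0, 3]),
   ([3, 1, 0, 3, 0, 1, 4, 3, 0], [1, 0, 3, 0, 1, 0, 4, 3]),
   ([3, 1, 0, 3, 0, 1, 4, 3, 1], [1, 3, 1, 0, 4, 3, 0, 1, 3]),
   ([3, 1, 0, 3, 0, 2, 1, 0, 3], [1, 0, 3, 0, 2, 1, 2, 3, 0]),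
   ([3, 1, 0, 3, 0, 2, 1, 2, 0], [1, 0, 3, 0, 2, 1, 3, 0, 3]),
   ([3, 1, 0, 3, 0, 2, 1, 2, 3], [1, 0, 3, 0, 2, 1, 0, 3, 0]),
   ([3, 1, 0, 3, 0, 2, 1, 3, 0], [1, 0, 3, 0, 2, 1, 2, 0, 3]),
   ([3, 1, 0, 3, 0, 2, 1, 3, 1], [0, 3, 0, 2, 1, 0, 3, 0, 2]),
   ([3, 1, 0, 3, 1, 0, 4, 3, 1], [1, 3, 0, 1, 4, 3, 0, 1, 3]),
   ([3, 1, 2, 0, 1, 0, 1, 0, 2], [0, 2, 1, 3, 1, 2, 0, 3, 1]),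
   ([3, 1, 2, 0, 2, 0, 1, 3, 1], [1, 3, 1, 2, 0, 2, 0, 1, 3]),
   ([3, 1, 2, 0, 2, 1, 0, 3, 0], [2, 3, 0, 2, 1, 2, 3, 0, 2]),
   ([3, 1, 2, 0, 2, 3, 0, 2, 3], [1, 3, 1, 2, 0, 2, 3, 0, 2]),
   ([3, 1, 2, 0, 2, 3, 0, 4, 3], [1, 3, 1, 2, 0, 2, 4, 3, 0]),
   ([3, 1, 2, 0, 3, 1, 0, 1, 3], [1, 3, 1, 2, 1, 0, 1, 3, 0]),
   ([3, 1, 2, 0, 3, 1, 2, 0, 1], [1, 2, 0, 3, 1, 2, 0, 1, 0]),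
   ([3, 1, 2, 0, 3, 1, 4, 3, 1], [1, 3, 1, 2, 4, 3, 0, 1, 3]),
   ([3, 1, 2, 1, 0, 1, 2, 1, 2], [2, 3, 1, 0, 2, 1, 2, 0, 1]),
   ([3, 1, 2, 1, 0, 1, 3, 0, 3], [1, 3, 1, 2, 0, 3, 1, 0, 1]),
   ([3, 1, 2, 1, 0, 3, 0, 1, 3], [0, 3, 0, 2, 1, 2, 3, 1]),
   ([3, 1, 2, 1, 0, 4, 3, 0, 2], [0, 3, 0, 1, 2, 1, 4, 3]),
   ([3, 1, 4, 3, 1, 0, 3, 1, 0], [0, 3, 1, 4, 3, 1, 0, 3, 1]),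
   ([4, 3, 0, 1, 2, 3, 1, 2, 1], [3, 0, 3, 1, 2, 4, 3, 1, 2]),
   ([4, 3, 0, 4, 3, 1, 4, 3, 1], [3, 0, 4, 3, 4, 3, 1, 4, 3])]

/-- the new numbers of the base points of the stabilizer chain -/
def baseJ : List ℕ := [98183, 93854, 81401, 20459, 70172, 640, 35865, 17]

/-- the words of the inverses of the old letters `a`, `b`, `n` and of the old letter `ξ` -/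
def wOld : List (List ℕ) :=
  [[2, 0, 1, 3, 1, 0, 1, 0, 1, 3, 1, 2, 0, 1, 0, 2, 0, 1, 2, 0, 1],
   [0, 1, 2, 3, 0, 2, 1, 2, 3, 1, 2, 0, 1, 2, 1, 0, 3, 1, 0, 1],
   [3, 2, 0, 1, 2, 1, 3, 0, 2, 0, 1, 2, 1, 3, 3, 1, 0, 2, 1, 3, 1, 0, 2, 1, 0, 2, 0, 1, 2, 3, 0, 1, 3, 4, 3, 1, 0, 3, 2, 1, 0, 2, 0, 1, 2, 0, 1, 3, 1, 2, 0, 1, 3, 4, 3, 1, 2, 1, 0, 2, 0, 3, 1, 2, 1, 0, 2, 3, 0, 2, 0, 1, 2, 0, 1, 2, 3, 0, 1, 0, 2, 0, 1, 3, 0, 1, 0, 1, 2, 0, 1, 2, 1, 3],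
   [4]]

end Cfsg.Agent.Lib.Helper1.Co1Mu
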