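import Mathlib
import Cfsg.Agent.Lib.Helper1.Co1B.M4
import Cfsg.Agent.Lib.Helper1.Co1Mu.ActA
import Cfsg.Agent.Lib.Helper1.Co1Mu.ActB
import Cfsg.Agent.Lib.Helper1.Co1Mu.ActC
import Cfsg.Agent.Lib.Helper1.Co1Mu.ActD
import Cfsg.Agent.Lib.Helper1.Co1Mu.ActE
import Cfsg.Agent.Lib.Helper1.Co1Mu.ActN

set_option autoImplicit false
set_option maxRecDepth 100000

/-! The first Conway group on the 98280 pairs of minimal vectors with five involutions as letters:
the letters as elements of the group, their action on the numbered points. -/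

namespace Cfsg.Agent.Lib.Helper1.Co1Mu

open Cfsg MulAction Cfsg.Agent.Lib.Helper1 Cfsg.Agent.Lib.Helper1.LeechEnum
  Cfsg.Agent.Lib.Helper1.LeechConn Cfsg.Agent.Lib.Helper1.LeechAut
  Cfsg.Agent.Lib.Helper1.ConwayCo1 Cfsg.Agent.Lib.Helper1.Co1B

/-! ### The letters -/

theorem prims_okN : ∀ g ∈ [hA, hB, hC, hD, hE], ∀ pr ∈ g, primOK pr = true := by decide +kernel

theorem tracks_letN (c : ℕ) : Tracks (applyGen (letN c)) := by
  apply applyGen_tracks
  unfold letN
  rcases nthG_mem [hA, hB, hC, hD, hE] c with h | h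
  · rw [h]
    intro pr hpr
    exact absurd hpr List.not_mem_nil
  · exact prims_okN _ h

theorem exists_eltN (c : ℕ) : ∃ g : Co0, ∀ v (hv : Good v),
    ((g • (⟨vec v, hv.1⟩ : leechLattice) : leechLattice) : GolayPt → ℤ) =
      vec (applyGen (letN c) v) := by
  obtain ⟨F, ⟨g, hg⟩, hFv⟩ := tracks_letN c
  exact ⟨g, fun v hv => by rw [hg, hFv v hv]⟩

/-- the letters as automorphisms of the lattice -/
noncomputable def gX (c : ℕ) : Co0 := Classical.choose (exists_eltN c)

theorem gX_spec (c v : ℕ) (hv : Good v) :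
    ((gX c • (⟨vec v, hv.1⟩ : leechLattice) : leechLattice) : GolayPt → ℤ) =
      vec (applyGen (letN c) v) :=
  Classical.choose_spec (exists_eltN c) v hv

/-- the letters as elements of the group -/
noncomputable def eX (c : ℕ) : C1 := QuotientGroup.mk (gX c)

/-! ### The facts of the check -/

theorem act_okN (c : ℕ) (hc : c < 5) (j : ℕ) (hj : j < 98280) : actChkN c j = true := by
  interval_cases c
  · exact actA_ok j hj
  · exact actB_ok j hj
  · exact actC_ok j hj
  · exact actD_ok j hj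
  · exact actE_ok j hj

theorem chk_facts (c : ℕ) (hc : c < 5) (j : ℕ) (hj : j < 98280) :
    piT c j < 98280 ∧ ordT j < 98280 ∧ canon (applyGen (letN c) (vN j)) = vN (piT c j) ∧
      piT c (piT c j) = j := by
  have h := act_okN c hc j hj
  unfold actChkN at h
  rw [Bool.and_eq_true, Bool.and_eq_true, Bool.and_eq_true, Nat.blt_eq, Nat.blt_eq, nbeq_iff,
    nbeq_iff] at h
  exact ⟨h.1.1.1, h.1.1.2, h.1.2, h.2⟩

theorem piT_lt (c : ℕ) (hc : c < 5) (j : ℕ) (hj : j < 98280) : piT c j < 98280 :=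
  (chk_facts c hc j hj).1

theorem ordT_lt (j : ℕ) (hj : j < 98280) : ordT j < 98280 := (chk_facts 0 (by norm_num) j hj).2.1

theorem vL_ne_zero (i : ℕ) (hi : i < 98280) : vL i ≠ 0 := by
  intro h0
  have hb := (vL_props i hi).1.bounds (gUnidx 0)
  rw [h0] at hb
  have : fld (gIdx (gUnidx 0)) 0 = 0 := by
    unfold fld
    simp
  omega

/-- the action of a letter on the vector of a point -/
theorem smul_xL (c : ℕ) (hc : c < 5) (j : ℕ) (hj : j < 98280) :
    gX c • xL ⟨ordT j, ordT_lt j hj⟩ =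
        xL ⟨ordT (piT c j), ordT_lt _ (piT_lt c hc j hj)⟩ ∨
      gX c • xL ⟨ordT j, ordT_lt j hj⟩ =
        -xL ⟨ordT (piT c j), ordT_lt _ (piT_lt c hc j hj)⟩ := by
  obtain ⟨h1, h2, h3, _⟩ := chk_facts c hc j hj
  have hlt' := ordT_lt _ h1
  have hsp := gX_spec c (vL (ordT j)) (vL_props _ h2).1
  set w := applyGen (letN c) (vL (ordT j)) with hw
  have h3' : canon w = vL (ordT (piT c j)) := h3
  unfold canon at h3'
  cases hb : Nat.blt (Nat.mul 2 w) P2 with
  | true =>
    rw [hb] at h3'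
    left
    apply Subtype.ext
    show ((gX c • xL ⟨ordT j, ordT_lt j hj⟩ : leechLattice) : GolayPt → ℤ) =
      vec (vL (ordT (piT c j)))
    rw [← h3']
    exact hsp
  | false =>
    rw [hb] at h3'
    right
    apply Subtype.ext
    rw [coe_neg']
    have hne := vL_ne_zero _ hlt'
    have h4 : Nat.sub P2 w = vL (ordT (piT c j)) := h3'
    have h5 : P2 - w = vL (ordT (piT c j)) := h4
    have h6 : w = P2 - vL (ordT (piT c j)) := by omega
    have h7 := (good_neg (vL_props _ hlt').1 (vL_lt _ hlt')).2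
    rw [← h6] at h7
    exact hsp.trans h7

/-! ### The points -/

/-- the numbered points -/
noncomputable def pt (j : ℕ) : Pairs :=
  if h : ordT j < 98280 then P (xL ⟨ordT j, h⟩) else P (xL 0)

theorem pt_eq (j : ℕ) (hj : j < 98280) : pt j = P (xL ⟨ordT j, ordT_lt j hj⟩) := by
  unfold pt
  rw [dif_pos (ordT_lt j hj)]

theorem pi_act (c : ℕ) (hc : c < 5) (j : ℕ) (hj : j < 98280) :
    eX c • pt j = pt (piT c j) := by
  rw [pt_eq j hj, pt_eq _ (piT_lt c hc j hj)]
  unfold eX
  rw [mk_smul_P, P_eq_iff]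
  exact smul_xL c hc j hj

theorem ordT_zero' : ordT 0 = 22 := (nbeq_iff _ _).mp ordT_zero

theorem pt_zero (j : ℕ) (hj : j < 98280) (h : pt j = pt 0) : j = 0 := by
  rw [pt_eq j hj, pt_eq 0 (by norm_num)] at h
  have h1 : pP ⟨ordT j, ordT_lt j hj⟩ = pP ⟨ordT 0, ordT_lt 0 (by norm_num)⟩ := Subtype.ext h
  have h2 := congrArg Fin.val (pP_injective h1)
  have h3 : ordT j = 22 := by
    rw [← ordT_zero']
    exact h2
  have h4 := ne_ok j hj
  unfold neChk at h4
  rw [Bool.or_eq_true, nbeq_iff, Bool.not_eq_true', nbeq_false_iff] at h4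
  rcases h4 with h4 | h4
  · exact h4
  · exact absurd h3 h4

end Cfsg.Agent.Lib.Helper1.Co1Mu
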