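import Mathlib
import Cfsg.Agent.Lib.Helper1.Co1Mu.Grp1
import Cfsg.Agent.Lib.Helper1.Co1Mu.GData

set_option autoImplicit false
set_option maxRecDepth 100000

/-! The first Conway group on the 98280 pairs of minimal vectors with five involutions as letters:
the relations between the letters, the letters generate the group. -/

namespace Cfsg.Agent.Lib.Helper1.Co1Mu

open Cfsg MulAction Cfsg.Agent.Lib.Helper1 Cfsg.Agent.Lib.Helper1.LeechEnum
  Cfsg.Agent.Lib.Helper1.LeechConn Cfsg.Agent.Lib.Helper1.LeechAut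
  Cfsg.Agent.Lib.Helper1.ConwayCo1 Cfsg.Agent.Lib.Helper1.Co1B Cfsg.Agent.Lib.Helper1.MatCode
open Cfsg.Agent.Lib.Helper6.TC Cfsg.Agent.Lib.Helper6.PM Cfsg.Agent.Lib.Helper2.PMS
open Cfsg.Agent.Lib.Helper5.Chain

/-- the list of the letters -/
noncomputable def gs : List C1 := [eX 0, eX 1, eX 2, eX 3, eX 4]

theorem gs_getD (c : ℕ) (hc : c < 5) : gs.getD c 1 = eX c := by
  interval_cases c <;> rfl

/-! ### The right action of the letters -/

/-- the right action of an element of the group on the numbers of the points -/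
noncomputable def rA (g : C1) (q : ℕ) : ℕ := ((phi g)⁻¹ (Fin.ofNat 98280 q)).val

theorem ofNat_eq (q : ℕ) (hq : q < 98280) : Fin.ofNat 98280 q = (⟨q, hq⟩ : Fin 98280) := by
  apply Fin.ext
  rw [Fin.val_ofNat, Nat.mod_eq_of_lt hq]

theorem rA_lt (g : C1) (q : ℕ) : rA g q < 98280 := Fin.isLt _

theorem rA_one (q : ℕ) (hq : q < 98280) : rA 1 q = q := by
  unfold rA
  rw [map_one, inv_one, Equiv.Perm.one_apply, ofNat_eq q hq]

theorem rA_mul (g g' : C1) (q : ℕ) : rA (g * g') q = rA g' (rA g q) := by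
  unfold rA
  rw [map_mul, mul_inv_rev, Equiv.Perm.mul_apply]
  congr 2
  apply Fin.ext
  rw [Fin.val_ofNat, Nat.mod_eq_of_lt (Fin.isLt _)]

theorem ract_eq_rA (g : C1) (q : ℕ) : ract co1S g q = rA g q := rfl

theorem rA_eX (c : ℕ) (hc : c < 5) (j : ℕ) (hj : j < 98280) :
    rA (eX c) (ordT j) = ordT (piT c j) := by
  unfold rA
  rw [ofNat_eq _ (ordT_lt j hj)]
  obtain ⟨h1, _, _, h4⟩ := chk_facts c hc j hj
  have key : (phi (eX c))⁻¹ ⟨ordT j, ordT_lt j hj⟩ = ⟨ordT (piT c j), ordT_lt _ h1⟩ := by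
    rw [Equiv.Perm.inv_eq_iff_eq]
    symm
    unfold eX
    rw [phi_eq_iff]
    have := smul_xL c hc (piT c j) h1
    simp only [h4] at this
    exact this
  rw [key]

theorem rA_word (w : List ℕ) (hw : ∀ c ∈ w, c < 5) (j : ℕ) (hj : j < 98280) :
    wapp piT w j < 98280 ∧ rA (wordProd gs w) (ordT j) = ordT (wapp piT w j) := by
  induction w generalizing j with
  | nil =>
    refine ⟨hj, ?_⟩
    rw [wordProd_nil]
    exact rA_one _ (ordT_lt j hj)
  | cons c w ih =>
    have hc : c < 5 := hw c (List.mem_cons_self)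
    have hw' : ∀ c' ∈ w, c' < 5 := fun c' h => hw c' (List.mem_cons_of_mem _ h)
    have h1 := piT_lt c hc j hj
    obtain ⟨i1, i2⟩ := ih hw' (piT c j) h1
    refine ⟨i1, ?_⟩
    rw [wordProd_cons, gs_getD c hc, rA_mul, rA_eX c hc j hj, i2]
    rfl

/-! ### The relations -/

/-- the check of a relation on the base points -/
noncomputable def relChk (w : List ℕ × List ℕ) : Bool :=
  List.all baseJ (fun j => Nat.beq (wapp piT w.1 j) (wapp piT w.2 j))

theorem base_map : List.map ordT baseJ = baseC := by decide +kernel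

theorem baseJ_lt : ∀ j ∈ baseJ, j < 98280 := by decide

theorem RA_lt : ∀ w ∈ RA, (∀ c ∈ w.1, c < 5) ∧ ∀ c ∈ w.2, c < 5 := by decide

theorem RA_chk : List.all RA relChk = true := by decide +kernel

theorem eq_of_base (g g' : C1)
    (h : ∀ j ∈ baseJ, rA g (ordT j) = rA g' (ordT j)) : g = g' := by
  have key : ∀ b ∈ DC.base, ract co1S g b = ract co1S g' b := by
    intro b hb
    have hb' : b ∈ List.map ordT baseJ := by
      rw [base_map]
      exact hb
    obtain ⟨j, hj, rfl⟩ := List.mem_map.mp hb'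
    exact h j hj
  exact factsC.eq_of_ract_base g g' key

theorem eq_of_base_old (g g' : C1)
    (h : ∀ j ∈ baseJ, rA g (ordT j) = rA g' (ordT j)) : g = g' := by
  exact eq_of_base g g' h

theorem rel_eq (w : List ℕ × List ℕ) (hw : w ∈ RA) : wordProd gs w.1 = wordProd gs w.2 := by
  apply eq_of_base
  intro j hj
  have hlt := baseJ_lt j hj
  obtain ⟨hw1, hw2⟩ := RA_lt w hw
  rw [(rA_word w.1 hw1 j hlt).2, (rA_word w.2 hw2 j hlt).2]
  have h1 := List.all_eq_true.mp RA_chk w hw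
  unfold relChk at h1
  have h2 := List.all_eq_true.mp h1 j hj
  rw [nbeq_iff] at h2
  rw [h2]

/-! ### Generation -/

/-- the check of the words of the old letters on the base points -/
noncomputable def oldChk : Bool :=
  List.all baseJ (fun j =>
    Nat.beq (ordT (wapp piT (wOld.getD 0 []) j)) (ti 0 (ordT j)) &&
    Nat.beq (ordT (wapp piT (wOld.getD 1 []) j)) (ti 1 (ordT j)) &&
    Nat.beq (ordT (wapp piT (wOld.getD 2 []) j)) (ti 2 (ordT j)) &&
    Nat.beq (ordT (wapp piT (wOld.getD 3 []) j)) (tfp 3 (ordT j)))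

theorem old_chk : oldChk = true := by decide +kernel

theorem wOld_lt : ∀ w ∈ wOld, ∀ c ∈ w, c < 5 := by decide

theorem old_facts (j : ℕ) (hj : j ∈ baseJ) :
    ordT (wapp piT (wOld.getD 0 []) j) = ti 0 (ordT j) ∧
    ordT (wapp piT (wOld.getD 1 []) j) = ti 1 (ordT j) ∧
    ordT (wapp piT (wOld.getD 2 []) j) = ti 2 (ordT j) ∧
    ordT (wapp piT (wOld.getD 3 []) j) = tfp 3 (ordT j) := by
  have h := List.all_eq_true.mp old_chk j hj
  rw [Bool.and_eq_true, Bool.and_eq_true, Bool.and_eq_true, nbeq_iff, nbeq_iff, nbeq_iff,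
    nbeq_iff] at h
  exact ⟨h.1.1.1, h.1.1.2, h.1.2, h.2⟩

theorem eL_eq (c : ℕ) (hc : c < 4) : eL c = wordProd gs (wOld.getD c []) := by
  have hwl : ∀ c' ∈ wOld.getD c [], c' < 5 := by
    apply wOld_lt
    interval_cases c <;> simp [wOld]
  apply eq_of_base
  intro j hj
  have hlt := baseJ_lt j hj
  rw [(rA_word _ hwl j hlt).2]
  unfold rA
  rw [ofNat_eq _ (ordT_lt j hlt)]
  obtain ⟨f0, f1, f2, f3⟩ := old_facts j hj
  interval_cases c
  · rw [f0]; exact phi_eL_inv 0 (by norm_num) ⟨ordT j, ordT_lt j hlt⟩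
  · rw [f1]; exact phi_eL_inv 1 (by norm_num) ⟨ordT j, ordT_lt j hlt⟩
  · rw [f2]; exact phi_eL_inv 2 (by norm_num) ⟨ordT j, ordT_lt j hlt⟩
  · rw [f3]; exact phi_eL3_inv ⟨ordT j, ordT_lt j hlt⟩

theorem closure_gs : Subgroup.closure {g : C1 | ∃ i < 5, g = gs.getD i 1} = ⊤ := by
  rw [eq_top_iff, ← CS_eq_top]
  unfold CS
  rw [Subgroup.closure_le]
  have hsub : ∀ c < 4, eL c ∈ Subgroup.closure {g : C1 | ∃ i < 5, g = gs.getD i 1} := by
    intro c hc
    rw [eL_eq c hc]
    apply wordProd_mem gs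
    intro g hg
    apply Subgroup.subset_closure
    obtain ⟨i, hi, rfl⟩ := List.getElem_of_mem hg
    have hi' : i < 5 := hi
    exact ⟨i, hi', by rw [List.getD_eq_getElem _ _ hi]⟩
  intro g hg
  simp only [Set.mem_insert_iff, Set.mem_singleton_iff] at hg
  rcases hg with rfl | rfl | rfl | rfl
  · exact hsub 0 (by norm_num)
  · exact hsub 1 (by norm_num)
  · exact hsub 2 (by norm_num)
  · exact hsub 3 (by norm_num)

end Cfsg.Agent.Lib.Helper1.Co1Mu
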