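import Mathlib
import Cfsg.Agent.Lib.Helper1.Co1Mu.Grp2
import Cfsg.Agent.Lib.Helper1.Co2B8
import Cfsg.Agent.Lib.Helper1.Stem14

set_option autoImplicit false
set_option maxRecDepth 100000

/-! The first Conway group on the 98280 pairs of minimal vectors: the stabilizer of the first point
is the second Conway group. -/

namespace Cfsg.Agent.Lib.Helper1.Co1Mu

open Cfsg MulAction Cfsg.Agent.Lib.Helper1 Cfsg.Agent.Lib.Helper1.LeechEnum
  Cfsg.Agent.Lib.Helper1.LeechConn Cfsg.Agent.Lib.Helper1.LeechAut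
  Cfsg.Agent.Lib.Helper1.ConwayCo1 Cfsg.Agent.Lib.Helper1.Co1B Cfsg.Agent.Lib.Helper1.MatCode
  Cfsg.Agent.Lib.Helper1.Stem

open scoped commutatorElement

/-- the first point is the pair of the vector `(4, 0, ..., 0, 4)` -/
theorem pt_zero_eq : pt 0 = P Cfsg.Spor.leechU := by
  rw [pt_eq 0 (by norm_num), P_eq_iff]
  right
  apply Subtype.ext
  rw [coe_neg']
  show vec (vL (ordT 0)) = -Cfsg.Spor.vecU
  rw [ordT_zero', vL_root, (good_neg good_pU pU_lt).2, vec_pU]

theorem leechU_norm : sqNorm (Cfsg.Spor.leechU : GolayPt → ℤ) ≠ 0 := by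
  show sqNorm Cfsg.Spor.vecU ≠ 0
  rw [vecU_norm]
  norm_num

/-- the stabilizer of the first point -/
noncomputable def K : Subgroup C1 := stabilizer C1 (pt 0)

theorem K_eq : K = stabilizer C1 (P Cfsg.Spor.leechU) := by
  unfold K
  rw [pt_zero_eq]

/-- the stabilizer of the first point is the second Conway group -/
noncomputable def equivK : ↥K ≃* ↥Cfsg.Spor.Co2 :=
  (MulEquiv.subgroupCongr K_eq).trans
    ((MulEquiv.ofBijective (stabHom Cfsg.Spor.leechU)
      (stabHom_bijective Cfsg.Spor.leechU leechU_norm)).symm.trans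
      Cfsg.Agent.Lib.Helper1.Co2B.toM0.symm)

theorem not_prime_card_Co2 : ¬ (Nat.card ↥Cfsg.Spor.Co2).Prime := by
  rw [Cfsg.Agent.Lib.Helper1.Co2B.card_Co2]
  norm_num

theorem commutator_Co2 : commutator ↥Cfsg.Spor.Co2 = ⊤ := by
  have := Cfsg.Agent.Lib.Helper1.Co2B.isSimpleGroup_Co2
  rcases (inferInstance : (commutator ↥Cfsg.Spor.Co2).Normal).eq_bot_or_eq_top with h | h
  · exfalso
    have hc : ∀ a b : ↥Cfsg.Spor.Co2, a * b = b * a := by
      intro a b
      have : ⁅a, b⁆ ∈ commutator ↥Cfsg.Spor.Co2 := by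
        rw [commutator_def]
        exact Subgroup.commutator_mem_commutator (Subgroup.mem_top a) (Subgroup.mem_top b)
      rw [h, Subgroup.mem_bot, commutatorElement_eq_one_iff_mul_comm] at this
      exact this
    let _ : CommGroup ↥Cfsg.Spor.Co2 := { (inferInstance : Group ↥Cfsg.Spor.Co2) with mul_comm := hc }
    exact not_prime_card_Co2 IsSimpleGroup.prime_card
  · exact h

theorem commutator_K : commutator ↥K = ⊤ := by
  have h := commutator_Co2
  rw [commutator_def] at h ⊢
  have h2 := congrArg (Subgroup.map equivK.symm.toMonoidHom) h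
  rw [Subgroup.map_commutator] at h2
  have ht : Subgroup.map equivK.symm.toMonoidHom ⊤ = ⊤ := by
    rw [← MonoidHom.range_eq_map]
    exact MonoidHom.range_eq_top.mpr equivK.symm.surjective
  rw [ht] at h2
  exact h2

/-- the stem extensions of the stabilizer are trivial as soon as the multiplier of the second
Conway group is -/
theorem stem_K (h2 : Cfsg.HasCyclicSchurMultiplier ↥Cfsg.Spor.Co2 1)
    (Γ' : Type) [Group Γ'] [Finite Γ'] (σ' : Γ' →* ↥K) (hσ' : Cfsg.IsStemExtension σ') :
    Nat.card σ'.ker ≤ 1 := by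
  have h3 := isStem_comp_equiv (MulEquiv.refl Γ') equivK σ' hσ'
  obtain ⟨π, hπ⟩ := h2.2 Γ' _ h3
  have e := kerEquiv (MulEquiv.refl Γ') equivK σ'
  rw [← Nat.card_congr e.toEquiv]
  have hle := Nat.card_le_card_of_surjective π hπ
  have h1 : Nat.card (Multiplicative (ZMod 1)) = 1 := by
    rw [Nat.card_eq_fintype_card]
    rfl
  omega

end Cfsg.Agent.Lib.Helper1.Co1Mu
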