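import Mathlib
import Cfsg.Agent.Lib.Helper1.Co1Mu.Grp3
import Cfsg.Agent.Lib.Helper4.Sparse.GroupB

set_option autoImplicit false
set_option maxRecDepth 100000

/-! The first Conway group: the bound on the primary kernels of the stem extensions from a sparse
certificate on the 98280 points. -/

namespace Cfsg.Agent.Lib.Helper1.Co1Mu

open Cfsg MulAction Cfsg.Agent.Lib.Helper1 Cfsg.Agent.Lib.Helper1.ConwayCo1
  Cfsg.Agent.Lib.Helper1.Co1B Cfsg.Agent.Lib.Helper1.MatCode Cfsg.Agent.Lib.Helper1.Stem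
  Cfsg.Agent.Lib.Helper1.StemSA Cfsg.Agent.Lib.Helper4.Sparse

theorem card_ker_le (p : ℕ) [hp : Fact p.Prime] (D : SAData) (E : ℕ)
    (hV : ValsBoundN.{0} D p E D.k) (hS : D.chkStruct = true)
    (hk : D.k = 5) (hm : D.m = 98280) (hpi : D.pi = piT)
    (hords : ∀ i < D.k, D.ords.getD i 0 = 0) (hkr : D.k ≤ D.rels.length)
    (Em Fm : ℕ → ℕ → ℤ) (Dt : ℤ) (hDt : IsCoprime Dt (p : ℤ))
    (hEm : ∀ r < D.k, ∀ g < D.k, Em r g = ((D.rels.getD r ([], [])).1.count g : ℤ) -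
      ((D.rels.getD r ([], [])).2.count g : ℤ))
    (hEF : ∀ r < D.k, ∀ j < D.k,
      ∑ g ∈ Finset.range D.k, Em r g * Fm g j = if r = j then Dt else 0)
    (hrels : ∀ w ∈ D.rels, w ∈ RA)
    (h2 : Cfsg.HasCyclicSchurMultiplier ↥Cfsg.Spor.Co2 1)
    (Γ : Type) [Group Γ] [Finite Γ] (σ : Γ →* Cfsg.Spor.Co1) (hσ : Cfsg.IsStemExtension σ)
    (hker : IsPGroup p σ.ker) : Nat.card σ.ker ≤ p ^ E * 1 := by
  have hq : Function.Surjective (1 : ↥K →* PUnit.{1}) := fun _ => ⟨1, rfl⟩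
  refine card_ker_le_pow_mul_cycN p D E hV hS (by rw [hm]; norm_num) hords hkr Em Fm Dt hDt hEm hEF
    (G := Cfsg.Spor.Co1) (Y := Pairs) pt gs ?_ ?_ ?_ ?_ K rfl (1 : ↥K →* PUnit.{1}) hq ?_ K le_rfl ?_
    commutator_K 1 ?_ Γ σ hσ hker
  · rw [hk]
    exact closure_gs
  · intro j hj
    rw [hm] at hj
    exact pt_zero j hj
  · intro i hi j hj
    rw [hk] at hi
    rw [hm] at hj
    rw [gs_getD i hi, hpi]
    exact pi_act i hi j hj
  · intro w hw
    exact rel_eq w (hrels w hw)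
  · rw [Nat.card_unique]
    exact Nat.coprime_one_left p
  · intro k
    constructor
    · intro _
      exact k.2
    · intro _
      rfl
  · intro Γ' _ _ σ' hσ' _
    exact stem_K h2 Γ' σ' hσ'

end Cfsg.Agent.Lib.Helper1.Co1Mu
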