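import Mathlib
import Cfsg.Agent.Lib.Helper1.LeechEnum2
import Cfsg.Agent.Lib.Helper1.LeechCenter
import Cfsg.Agent.Lib.Helper1.Co1B.M2
import Cfsg.Prelude.Def_KGroupFacts

set_option autoImplicit false
set_option maxRecDepth 100000

/-! The automorphism group of the lattice is a stem extension of the first Conway group with a
kernel of order two: the negation is the commutator of a coordinate permutation and of the sign
change on a dodecad which the permutation exchanges with its complement. -/

namespace Cfsg.Agent.Lib.Helper1.Co1Mu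

open Cfsg MulAction Cfsg.Agent.Lib.Helper1 Cfsg.Agent.Lib.Helper1.LeechEnum
  Cfsg.Agent.Lib.Helper1.LeechCross Cfsg.Agent.Lib.Helper1.LeechAut
  Cfsg.Agent.Lib.Helper1.LeechXi Cfsg.Agent.Lib.Helper1.LeechChk Cfsg.Agent.Lib.Helper1.MaskOf
  Cfsg.Agent.Lib.Helper1.Co1B

open scoped commutatorElement

/-- a signed permutation table: a permutation of the Mathieu group which exchanges a dodecad with
its complement, the signs on the dodecad -/
def tabX : List ℕ :=
  [29, 19, 34, 21, 5, 26, 30, 8, 38, 6, 0, 40, 44, 37, 2, 17, 15, 47, 42, 23, 13, 25, 11, 32]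

theorem tabX_ok : tabOK tabX = true := by decide +kernel

theorem tabX_swap : ∀ i < 24, (sI tabX (tI tabX i) = 1 ↔ ¬ sI tabX i = 1) := by decide

/-- the permutation and the sign set of a valid table -/
theorem tab_data {tab : List ℕ} (h : tabOK tab = true) :
    ∃ σ : Equiv.Perm GolayPt, σ ∈ M24 ∧ (∀ p, σ p = gUnidx (tI tab (gIdx p))) ∧
      (∀ i < 24, tI tab i < 24) ∧
      ∃ c : Finset GolayPt, c ∈ gC ∧ ∀ p, p ∈ c ↔ sI tab (gIdx p) = 1 := by
  unfold tabOK at h
  simp only [Bool.and_eq_true, decide_eq_true_eq, allB_iff, beq_iff_eq] at h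
  obtain ⟨⟨⟨⟨hlen, hlt⟩, hinj⟩, hM⟩, hsc, hS⟩ := h
  let f : GolayPt → GolayPt := fun p => gUnidx (tI tab (gIdx p))
  have hfinj : Function.Injective f := by
    intro p q hpq
    have h1 := M24.gUnidx_inj (hlt _ (gIdx_lt p)) (hlt _ (gIdx_lt q)) hpq
    exact gIdx_injective (hinj _ (gIdx_lt p) _ (gIdx_lt q) h1)
  let σ : Equiv.Perm GolayPt := Equiv.ofBijective f (Finite.injective_iff_bijective.mp hfinj)
  have hσ : ∀ p, σ p = gUnidx (tI tab (gIdx p)) := fun p => rfl
  have hσM : σ ∈ M24 := by
    apply mem_M24_of_table σ (ct tab) (fun k hk => (hM k hk).1)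
    intro k hk p
    rw [ofMask_apply, ofMask_apply, hσ, gIdx_gUnidx _ (hlt _ (gIdx_lt p)),
      (hM k hk).2 _ (gIdx_lt p)]
  let c : Finset GolayPt := Finset.univ.filter (fun p => sI tab (gIdx p) = 1)
  have hc : c ∈ gC := by
    have : c = support₂ (ofMask (cw (sc tab))) := by
      ext p
      rw [mem_support_ofMask, hS _ (gIdx_lt p)]
      simp [c]
    rw [this]
    exact support_cw_mem hsc
  exact ⟨σ, hσM, hσ, hlt, c, hc, fun p => by simp [c]⟩

/-- the negation is a commutator -/
theorem negC_mem_commutator : negC ∈ commutator Co0 := by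
  obtain ⟨σ, hσM, hσ, hlt, c, hc, hmem⟩ := tab_data tabX_ok
  have hswap : ∀ p, σ p ∈ c ↔ p ∉ c := by
    intro p
    rw [hmem, hmem, hσ, gIdx_gUnidx _ (hlt _ (gIdx_lt p))]
    exact tabX_swap _ (gIdx_lt p)
  set a := permC σ hσM with ha
  set b := epsC c hc with hb
  have key : a * b = negC * (b * a) := by
    apply Subtype.ext
    apply Equiv.ext
    intro v
    apply Subtype.ext
    show ((a • (b • v) : leechLattice) : GolayPt → ℤ) = ((negC • (b • (a • v)) : leechLattice) : GolayPt → ℤ)
    rw [negC_apply, ha, hb, permC_apply, epsC_apply, epsC_apply, permC_apply]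
    funext p
    simp only [permF, epsF, Pi.neg_apply]
    by_cases hp : p ∈ c
    · have : σ p ∉ c := fun h' => ((hswap p).mp h') hp
      rw [if_neg this, if_pos hp, neg_neg]
    · have : σ p ∈ c := (hswap p).mpr hp
      rw [if_pos this, if_neg hp]
  have h2 : ⁅a, b⁆ = negC := by
    rw [commutatorElement_def, key]
    group
  rw [← h2, commutator_def]
  exact Subgroup.commutator_mem_commutator (Subgroup.mem_top a) (Subgroup.mem_top b)

instance finite_Co0 : Finite Co0 :=
  Nat.finite_of_card_ne_zero (by rw [Cfsg.Agent.S0397.result]; norm_num)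

/-- the quotient map of the automorphism group of the lattice onto the first Conway group -/
noncomputable def coverHom : Co0 →* Cfsg.Spor.Co1 := QuotientGroup.mk' (Subgroup.center Co0)

theorem coverHom_ker : coverHom.ker = Subgroup.center Co0 := QuotientGroup.ker_mk' _

theorem coverHom_stem : Cfsg.IsStemExtension coverHom := by
  refine ⟨QuotientGroup.mk'_surjective _, ?_, ?_⟩
  · rw [coverHom_ker]
  · rw [coverHom_ker]
    intro g hg
    rcases central_cases g hg with h | h
    · rw [h]
      exact Subgroup.one_mem _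
    · rw [h]
      exact negC_mem_commutator

theorem card_coverHom_ker : Nat.card coverHom.ker = 2 := by
  rw [coverHom_ker]
  exact card_center

/-- the kernel is the cyclic group of order two -/
noncomputable def coverKerEquiv : coverHom.ker ≃* Multiplicative (ZMod 2) :=
  haveI : Fact (Nat.Prime 2) := ⟨Nat.prime_two⟩
  mulEquivOfPrimeCardEq (p := 2) card_coverHom_ker (by
    rw [Nat.card_eq_fintype_card]
    rfl)

end Cfsg.Agent.Lib.Helper1.Co1Mu
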