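import Mathlib
import Cfsg.Agent.Lib.Helper1.Co1Mu.Bound
import Cfsg.Agent.Lib.Helper1.Co1Mu.Exist
import Cfsg.Agent.Lib.Helper1.Co1Mu.P2.VB
import Cfsg.Agent.Lib.Helper1.Co1Mu.P2.Struct
import Cfsg.Agent.Lib.Helper1.Co1Mu.P2.Mat
import Cfsg.Agent.Lib.Helper1.Co1Mu.P3.VB
import Cfsg.Agent.Lib.Helper1.Co1Mu.P3.Struct
import Cfsg.Agent.Lib.Helper1.Co1Mu.P3.Mat
import Cfsg.Agent.Lib.Helper1.Co1Mu.P5.VB
import Cfsg.Agent.Lib.Helper1.Co1Mu.P5.Struct
import Cfsg.Agent.Lib.Helper1.Co1Mu.P5.Mat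
import Cfsg.Agent.Lib.Helper1.Co1Mu.P7.VB
import Cfsg.Agent.Lib.Helper1.Co1Mu.P7.Struct
import Cfsg.Agent.Lib.Helper1.Co1Mu.P7.Mat
import Cfsg.Agent.Lib.Helper1.Stem17
import Cfsg.Agent.Lib.Helper1.Stem21

set_option autoImplicit false
set_option maxRecDepth 100000

/-! The multiplier of the first Conway group is cyclic of order two, as soon as the multiplier of
the second Conway group is trivial. -/

namespace Cfsg.Agent.Lib.Helper1.Co1Mu

open Cfsg Cfsg.Agent.Lib.Helper1 Cfsg.Agent.Lib.Helper1.Co1B Cfsg.Agent.Lib.Helper1.Stem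
  Cfsg.Agent.Lib.Helper1.StemSA Cfsg.Agent.Lib.Helper4.Sparse

theorem hpiT : ∀ i < 5, ∀ j < 98280, piT i j < 98280 := piT_lt

theorem rels2_sub : ∀ w ∈ P2.rels, w ∈ RA := by decide +kernel
theorem rels3_sub : ∀ w ∈ P3.rels, w ∈ RA := by decide +kernel
theorem rels5_sub : ∀ w ∈ P5.rels, w ∈ RA := by decide +kernel
theorem rels7_sub : ∀ w ∈ P7.rels, w ∈ RA := by decide +kernel

variable (h2 : Cfsg.HasCyclicSchurMultiplier ↥Cfsg.Spor.Co2 1)
  (Γ : Type) [Group Γ] [Finite Γ] (σ : Γ →* Cfsg.Spor.Co1) (hσ : Cfsg.IsStemExtension σ)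

include h2 hσ in
theorem bound2 (hk : IsPGroup 2 σ.ker) : Nat.card σ.ker ≤ 2 := by
  have : Fact (Nat.Prime 2) := ⟨Nat.prime_two⟩
  have h := card_ker_le 2 P2.D 1 (P2.vb (P2.chkStruct_of hpiT)) (P2.chkStruct_of hpiT)
    P2.D_k P2.D_m P2.D_pi P2.D_ords P2.hkr P2.Em P2.Fm (-9) P2.hDt P2.hEm P2.hEF
    (by rw [P2.D_rels]; exact rels2_sub) h2 Γ σ hσ hk
  simpa using h

include h2 hσ in
theorem bound3 (hk : IsPGroup 3 σ.ker) : Nat.card σ.ker ≤ 1 := by
  have : Fact (Nat.Prime 3) := ⟨Nat.prime_three⟩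
  have h := card_ker_le 3 P3.D 0 (P3.vb (P3.chkStruct_of hpiT)) (P3.chkStruct_of hpiT)
    P3.D_k P3.D_m P3.D_pi P3.D_ords P3.hkr P3.Em P3.Fm 32 P3.hDt P3.hEm P3.hEF
    (by rw [P3.D_rels]; exact rels3_sub) h2 Γ σ hσ hk
  simpa using h

include h2 hσ in
theorem bound5 (hk : IsPGroup 5 σ.ker) : Nat.card σ.ker ≤ 1 := by
  have : Fact (Nat.Prime 5) := ⟨Nat.prime_five⟩
  have h := card_ker_le 5 P5.D 0 (P5.vb (P5.chkStruct_of hpiT)) (P5.chkStruct_of hpiT)
    P5.D_k P5.D_m P5.D_pi P5.D_ords P5.hkr P5.Em P5.Fm 32 P5.hDt P5.hEm P5.hEF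
    (by rw [P5.D_rels]; exact rels5_sub) h2 Γ σ hσ hk
  simpa using h

include h2 hσ in
theorem bound7 (hk : IsPGroup 7 σ.ker) : Nat.card σ.ker ≤ 1 := by
  have : Fact (Nat.Prime 7) := ⟨by norm_num⟩
  have h := card_ker_le 7 P7.D 0 (P7.vb (P7.chkStruct_of hpiT)) (P7.chkStruct_of hpiT)
    P7.D_k P7.D_m P7.D_pi P7.D_ords P7.hkr P7.Em P7.Fm 32 P7.hDt P7.hEm P7.hEF
    (by rw [P7.D_rels]; exact rels7_sub) h2 Γ σ hσ hk
  simpa using h

theorem not_sq_dvd (p : ℕ) (hp : p.Prime) (h2 : p ≠ 2) (h3 : p ≠ 3) (h5 : p ≠ 5) (h7 : p ≠ 7) :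
    ¬ p * p ∣ 4157776806543360000 := by
  intro h
  have hd : p ∣ 4157776806543360000 := dvd_trans (dvd_mul_right p p) h
  have e : (4157776806543360000 : ℕ) = 2 ^ 21 * 3 ^ 9 * 5 ^ 4 * 7 ^ 2 * 11 * 13 * 23 := by norm_num
  rw [e] at hd
  rcases (Nat.Prime.dvd_mul hp).mp hd with hd | hd
  · rcases (Nat.Prime.dvd_mul hp).mp hd with hd | hd
    · rcases (Nat.Prime.dvd_mul hp).mp hd with hd | hd
      · rcases (Nat.Prime.dvd_mul hp).mp hd with hd | hd
        · rcases (Nat.Prime.dvd_mul hp).mp hd with hd | hd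
          · rcases (Nat.Prime.dvd_mul hp).mp hd with hd | hd
            · exact h2 ((Nat.prime_dvd_prime_iff_eq hp Nat.prime_two).mp (hp.dvd_of_dvd_pow hd))
            · exact h3 ((Nat.prime_dvd_prime_iff_eq hp Nat.prime_three).mp (hp.dvd_of_dvd_pow hd))
          · exact h5 ((Nat.prime_dvd_prime_iff_eq hp Nat.prime_five).mp (hp.dvd_of_dvd_pow hd))
        · exact h7 ((Nat.prime_dvd_prime_iff_eq hp (by norm_num : Nat.Prime 7)).mp
            (hp.dvd_of_dvd_pow hd))
      · have := (Nat.prime_dvd_prime_iff_eq hp (by norm_num : Nat.Prime 11)).mp hd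
        subst this
        norm_num at h
    · have := (Nat.prime_dvd_prime_iff_eq hp (by norm_num : Nat.Prime 13)).mp hd
      subst this
      norm_num at h
  · have := (Nat.prime_dvd_prime_iff_eq hp (by norm_num : Nat.Prime 23)).mp hd
    subst this
    norm_num at h

include h2 hσ in
/-- the bound for the kernels which are `p`-groups -/
theorem bound_p (p : ℕ) [hp : Fact p.Prime] (hk : IsPGroup p σ.ker) : Nat.card σ.ker ∣ 2 := by
  by_cases e2 : p = 2
  · subst e2
    have h := bound2 h2 Γ σ hσ hk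
    have hpos := Nat.card_pos (α := σ.ker)
    have : Nat.card σ.ker = 1 ∨ Nat.card σ.ker = 2 := by omega
    rcases this with h' | h' <;> rw [h'] <;> norm_num
  · have h1 : Nat.card σ.ker = 1 := by
      have hpos := Nat.card_pos (α := σ.ker)
      by_cases e3 : p = 3
      · subst e3
        have := bound3 h2 Γ σ hσ hk
        omega
      · by_cases e5 : p = 5
        · subst e5
          have := bound5 h2 Γ σ hσ hk
          omega
        · by_cases e7 : p = 7
          · subst e7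
            have := bound7 h2 Γ σ hσ hk
            omega
          · apply Stem.card_ker_eq_one_of_not_sq_dvd σ hσ p hk
            have hc : Nat.card Cfsg.Spor.Co1 = 4157776806543360000 := card_C1
            rw [hc]
            exact not_sq_dvd p hp.out e2 e3 e5 e7
    rw [h1]
    exact one_dvd 2

include h2 hσ in
theorem card_ker_dvd : Nat.card σ.ker ∣ 2 := by
  apply Stem.card_dvd_of_primary σ 2 (by norm_num) ?_ hσ
  intro p hp Γ' _ _ σ' hσ' hk
  exact bound_p h2 Γ' σ' hσ' p hk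

theorem commutator_Co1 : commutator Cfsg.Spor.Co1 = ⊤ := by
  rcases (inferInstance : (commutator C1).Normal).eq_bot_or_eq_top with h | h
  · exfalso
    have hc : ∀ a b : C1, a * b = b * a := by
      intro a b
      have hm : a * b * a⁻¹ * b⁻¹ ∈ commutator C1 := by
        rw [commutator_def]
        exact Subgroup.commutator_mem_commutator (Subgroup.mem_top a) (Subgroup.mem_top b)
      rw [h, Subgroup.mem_bot] at hm
      calc a * b = (a * b * a⁻¹ * b⁻¹) * (b * a) := by group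
        _ = b * a := by rw [hm, one_mul]
    let _ : CommGroup C1 := { (inferInstance : Group C1) with mul_comm := hc }
    have hp : (Nat.card C1).Prime := IsSimpleGroup.prime_card
    rw [card_C1] at hp
    norm_num at hp
  · exact h

/-- **the multiplier of the first Conway group** is cyclic of order two, given that the multiplier
of the second Conway group is trivial -/
theorem multiplier_Co1 (h2 : Cfsg.HasCyclicSchurMultiplier ↥Cfsg.Spor.Co2 1) :
    Cfsg.HasCyclicSchurMultiplier Cfsg.Spor.Co1 2 := by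
  have hc : Nat.card (Multiplicative (ZMod 2)) = 2 := by
    rw [Nat.card_eq_fintype_card]
    rfl
  exact Stem.hasSchurMultiplier_of_cover_of_bound (MulEquiv.refl Cfsg.Spor.Co1) commutator_Co1
    (Multiplicative (ZMod 2)) coverHom coverHom_stem coverKerEquiv
    (fun Γ' _ _ σ' hσ' => by
      rw [hc]
      exact Nat.le_of_dvd (by norm_num) (card_ker_dvd h2 Γ' σ' hσ'))

end Cfsg.Agent.Lib.Helper1.Co1Mu
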