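import Mathlib.Data.Nat.Notation
import Cfsg.Agent.Lib.Helper1.Co1Mu.TabA
import Cfsg.Agent.Lib.Helper1.Co1Mu.TabB
import Cfsg.Agent.Lib.Helper1.Co1Mu.TabC
import Cfsg.Agent.Lib.Helper1.Co1Mu.TabD
import Cfsg.Agent.Lib.Helper1.Co1Mu.TabE

set_option autoImplicit false

/-! The tables of the five letters on the 98280 points. -/

namespace Cfsg.Agent.Lib.Helper1.Co1Mu

noncomputable section

/-- the tables of the five letters on the points -/
def piT : ℕ → ℕ → ℕ := fun i j =>
  Nat.rec (motive := fun _ => ℕ) (pA j) (fun i1 _ =>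
    Nat.rec (motive := fun _ => ℕ) (pB j) (fun i2 _ =>
      Nat.rec (motive := fun _ => ℕ) (pC j) (fun i3 _ =>
        Nat.rec (motive := fun _ => ℕ) (pD j) (fun _ _ => pE j) i3) i2) i1) i


end

end Cfsg.Agent.Lib.Helper1.Co1Mu
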