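import Mathlib
import Cfsg.Agent.Lib.Helper1.Co1B.VL
import Cfsg.Agent.Lib.Helper1.Co1Mu.PiT
import Cfsg.Agent.Lib.Helper1.Co1Mu.TabO

set_option autoImplicit false
set_option maxRecDepth 100000

/-! The first Conway group on the 98280 pairs of minimal vectors, numbered breadth-first from the
pair of `(4, 0, ..., 0, 4)`, with five involutions as letters: four permutations of the Mathieu
group (three of them generating the stabilizer of a tetrad) and the extra automorphism `ξ` of that
tetrad.  Access to the data. -/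

namespace Cfsg.Agent.Lib.Helper1.Co1Mu

open Cfsg Cfsg.Agent.Lib.Helper1.LeechEnum Cfsg.Agent.Lib.Helper1.Co1B

noncomputable section

/-- the letters as lists of primitives -/
def hA : List (List ℕ) := [[0, 2, 46, 14, 32, 38, 34, 6, 16, 20, 18, 22, 36, 26, 42, 30, 8, 12, 24, 10, 40, 28, 44, 4]]
def hB : List (List ℕ) := [[0, 46, 4, 34, 26, 10, 12, 42, 18, 16, 24, 30, 20, 8, 28, 22, 32, 6, 40, 38, 36, 14, 44, 2]]
def hC : List (List ℕ) := [[2, 0, 46, 28, 40, 34, 22, 24, 38, 32, 26, 12, 14, 20, 6, 44, 18, 10, 42, 16, 8, 36, 30, 4]]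
def hD : List (List ℕ) := [[0, 2, 30, 32, 42, 10, 12, 20, 16, 28, 14, 22, 26, 24, 18, 4, 6, 34, 40, 38, 36, 8, 46, 44]]
def hE : List (List ℕ) := [[]]

/-- the letters -/
def letN (c : ℕ) : List (List ℕ) := nthG [hA, hB, hC, hD, hE] c

/-- the packed vector of a point -/
def vN (j : ℕ) : ℕ := vL (ordT j)

/-- the representative below the middle of a packed vector and of its negative -/
def canon (w : ℕ) : ℕ := cond (Nat.blt (Nat.mul 2 w) P2) w (Nat.sub P2 w)

/-- the check of the tables at a point: the bounds, the image of the vector, the involution -/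
def actChkN (c j : ℕ) : Bool :=
  Nat.blt (piT c j) 98280 && Nat.blt (ordT j) 98280 &&
  Nat.beq (canon (applyGen (letN c) (vN j))) (vN (piT c j)) &&
  Nat.beq (piT c (piT c j)) j

/-- the check that a point is not the first one -/
def neChk (j : ℕ) : Bool := Nat.beq j 0 || !(Nat.beq (ordT j) 22)

end

end Cfsg.Agent.Lib.Helper1.Co1Mu
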